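import Cfsg.Agent.H63.McKay.Ext
import Cfsg.Agent.H45.Gallagher
import Cfsg.Agent.S0887

/-!
# The number of irreducible characters of degree prime to `p` over a character
-/

set_option autoImplicit false

open scoped ComplexConjugate

namespace Cfsg.Agent.H63.McKay

universe u v w

variable {G : Type u} [Group G] {L : Type v} [Group L]

/-- Over `ν`: the inner sum of `χ ∘ j` and `ν` is nonzero. -/
def Over (j : L →* G) (ν : L → ℂ) (χ : G → ℂ) : Prop :=
  (∑ᶠ l : L, χ (j l) * conj (ν l)) ≠ 0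

/-- The number of irreducible characters of degree prime to `p` over `ν`. -/
noncomputable def cnt (p : ℕ) (j : L →* G) (ν : L → ℂ) : ℕ :=
  Nat.card {χ : Cfsg.IrrCharacter G // ¬ p ∣ Cfsg.charDegree χ.1 ∧ Over j ν χ.1}

theorem over_congr {G' : Type w} [Group G'] (e : G ≃* G') (j : L →* G) (j' : L →* G')
    (hj : ∀ l, e (j l) = j' l) (ν : L → ℂ) (χ : G' → ℂ) :
    Over j ν (fun g => χ (e g)) ↔ Over j' ν χ := by
  simp only [Over, hj]

theorem cnt_congr {G' : Type w} [Group G'] (p : ℕ) (e : G ≃* G') (j : L →* G) (j' : L →* G')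
    (hj : ∀ l, e (j l) = j' l) (ν : L → ℂ) : cnt p j ν = cnt p j' ν := by
  refine (Nat.card_congr ((H43.irrCongrEquiv e).subtypeEquiv fun χ => ?_)).symm
  show _ ↔ ¬ p ∣ Cfsg.charDegree (H43.irrCongr e χ).1 ∧ _
  rw [H43.charDegree_irrCongr, ← over_congr e j j' hj ν χ.1]
  rfl

theorem over_congr_left {L' : Type w} [Group L'] (e : L' ≃* L) (j : L →* G) (j' : L' →* G)
    (hj : ∀ l, j (e l) = j' l) (ν : L → ℂ) (ν' : L' → ℂ) (hν : ∀ l, ν (e l) = ν' l) (χ : G → ℂ) :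
    Over j ν χ ↔ Over j' ν' χ := by
  rw [Over, Over, finsum_eq_of_bijective (f := fun l : L' => χ (j' l) * conj (ν' l))
    (g := fun l : L => χ (j l) * conj (ν l)) e e.bijective fun l => by rw [hj, hν]]

theorem cnt_congr_left {L' : Type w} [Group L'] (p : ℕ) (e : L' ≃* L) (j : L →* G)
    (j' : L' →* G) (hj : ∀ l, j (e l) = j' l) (ν : L → ℂ) (ν' : L' → ℂ)
    (hν : ∀ l, ν (e l) = ν' l) : cnt p j ν = cnt p j' ν' :=
  Nat.card_congr (Equiv.subtypeEquivRight fun χ =>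
    and_congr Iff.rfl (over_congr_left e j j' hj ν ν' hν χ.1))

theorem over_iff [Fintype L] (j : L →* G) (ν : Cfsg.IrrCharacter L) {χ : G → ℂ}
    (hχ : Cfsg.IsCharacter G χ) :
    Over j ν.1 χ ↔ H43.mult (fun l => χ (j l)) ν ≠ 0 := by
  have h := H43.classInner_eq_mult (φ := fun l => χ (j l)) (H26.isCharacter_comp hχ j) ν
  rw [Cfsg.classInner, ← finsum_eq_sum_of_fintype] at h
  rw [Over, ← Nat.cast_ne_zero (R := ℂ), ← h]
  exact ⟨fun h0 => mul_ne_zero (inv_ne_zero (Nat.cast_ne_zero.2 Nat.card_pos.ne')) h0,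
    fun h0 => (mul_ne_zero_iff.1 h0).2⟩

theorem over_iff_classInner [Fintype L] (j : L →* G) (ν : L → ℂ) (χ : G → ℂ) :
    Over j ν χ ↔ Cfsg.classInner (fun l => χ (j l)) ν ≠ 0 := by
  rw [Over, finsum_eq_sum_of_fintype, Cfsg.classInner]
  exact ⟨fun h0 => mul_ne_zero (inv_ne_zero (Nat.cast_ne_zero.2 Nat.card_pos.ne')) h0,
    fun h0 => (mul_ne_zero_iff.1 h0).2⟩

/-- The degree of a character below divides the degree of one above. -/
theorem dvd_of_over [Fintype G] (L : Subgroup G) [L.Normal] [Fintype L]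
    (ν : Cfsg.IrrCharacter L) (χ : Cfsg.IrrCharacter G) (h : Over L.subtype ν.1 χ.1) :
    Cfsg.charDegree ν.1 ∣ Cfsg.charDegree χ.1 :=
  (S0887.result L χ.1 χ.2 ν.1 ν.2 ((over_iff_classInner L.subtype ν.1 χ.1).1 h)
    (Cfsg.charDegree χ.1) (Cfsg.charDegree ν.1) (H43.irr_charDegree_spec χ)
    (H43.irr_charDegree_spec ν)).1

theorem cnt_eq_zero_of_dvd [Fintype G] (p : ℕ) (L : Subgroup G) [L.Normal] [Fintype L]
    (ν : Cfsg.IrrCharacter L) (hν : p ∣ Cfsg.charDegree ν.1) : cnt p L.subtype ν.1 = 0 := by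
  rw [cnt, Nat.card_eq_zero]
  exact Or.inl ⟨fun χ => χ.2.1 (hν.trans (dvd_of_over L ν χ.1 χ.2.2))⟩

end Cfsg.Agent.H63.McKay
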