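import Cfsg.Agent.H63.McKay.Phase
import Cfsg.Agent.H43.SubgroupAction
import Cfsg.Agent.H45.Gallagher
import Cfsg.Agent.H25.Kazarin

/-!
# The commutator sum and the Glauberman correspondence

If a `p`-group `S` normalises the `p'`-group `K`, and the commuting `p'`-elements `x`, `y` normalise
both and fix the `S`-invariant character `θ` of `K`, then the commutator sums of `θ` and of its
Glauberman correspondent on the fixed points of `S` agree. The step is an elementary abelian `A`
centralised by `y`: the Glauberman correspondence on `K⟨y⟩` commutes with twisting by linear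
characters.
-/

set_option autoImplicit false

open scoped ComplexConjugate commutatorElement

namespace Cfsg.Agent.H63.McKay

universe u

variable {G : Type u} [Group G]

/-- Multiplicity in the restriction to a smaller subgroup. -/
noncomputable def resMultLe [Finite G] {K C : Subgroup G} (h : C ≤ K)
    (θ : Cfsg.IrrCharacter K) (φ : Cfsg.IrrCharacter C) : ℕ :=
  @H43.mult C _ (Fintype.ofFinite C) (fun c => θ.1 (Subgroup.inclusion h c)) φ

theorem resMultLe_def [Finite G] {K C : Subgroup G} [Fintype C] (h : C ≤ K)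
    (θ : Cfsg.IrrCharacter K) (φ : Cfsg.IrrCharacter C) :
    resMultLe h θ φ = H43.mult (fun c => θ.1 (Subgroup.inclusion h c)) φ := by
  rw [resMultLe]
  congr 1
  exact Subsingleton.elim _ _

theorem glaubermanData [Finite G] {p : ℕ} [hp : Fact p.Prime] {K S C : Subgroup G}
    (hS : IsPGroup p S) (hK : ¬ p ∣ Nat.card K) (hSK : S ≤ Subgroup.normalizer (K : Set G))
    (hC : C = K ⊓ Subgroup.centralizer (S : Set G)) (hCK : C ≤ K) :
    H43.GlaubermanData p (H43.conjHom K S fun s hs g hg => conj_mem (hSK hs) hg)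
      (Subgroup.inclusion hCK) :=
  H43.glaubermanData_of_subgroup K S _ hp.out hS hK C hC hCK

theorem existsUnique_glau [Finite G] {p : ℕ} [Fact p.Prime] {K S C : Subgroup G}
    (hS : IsPGroup p S) (hK : ¬ p ∣ Nat.card K) (hSK : S ≤ Subgroup.normalizer (K : Set G))
    (hC : C = K ⊓ Subgroup.centralizer (S : Set G)) (hCK : C ≤ K) (θ : Cfsg.IrrCharacter K)
    (hθ : ∀ s ∈ S, Fix K θ.1 s) :
    ∃! φ : Cfsg.IrrCharacter C, ¬ p ∣ resMultLe hCK θ φ := by
  have := Fintype.ofFinite K
  have := Fintype.ofFinite C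
  have h := (glaubermanData hS hK hSK hC hCK).existsUnique θ fun s g => hθ s s.2 g _ rfl
  simp only [resMultLe_def]
  exact h

theorem centralizer_conj {S : Subgroup G} {x : G} (hx : x ∈ Subgroup.normalizer (S : Set G))
    {c : G} (hc : c ∈ Subgroup.centralizer (S : Set G)) :
    x * c * x⁻¹ ∈ Subgroup.centralizer (S : Set G) := by
  rw [Subgroup.mem_centralizer_iff] at hc ⊢
  intro s hs
  have h := hc (x⁻¹ * s * x⁻¹⁻¹) (conj_mem ((Subgroup.normalizer (S : Set G)).inv_mem hx) hs)
  rw [inv_inv] at h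
  calc s * (x * c * x⁻¹) = x * (x⁻¹ * s * x * c) * x⁻¹ := by group
    _ = x * (c * (x⁻¹ * s * x)) * x⁻¹ := by rw [h]
    _ = x * c * x⁻¹ * s := by group

/-- The correspondent is fixed by what fixes the character. -/
theorem fix_glau [Finite G] {p : ℕ} [Fact p.Prime] {K S C : Subgroup G} (hS : IsPGroup p S)
    (hK : ¬ p ∣ Nat.card K) (hSK : S ≤ Subgroup.normalizer (K : Set G))
    (hC : C = K ⊓ Subgroup.centralizer (S : Set G)) (hCK : C ≤ K) {θ : Cfsg.IrrCharacter K}
    (hθ : ∀ s ∈ S, Fix K θ.1 s) {φ : Cfsg.IrrCharacter C} (hφ : ¬ p ∣ resMultLe hCK θ φ) {x : G}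
    (hxK : x ∈ Subgroup.normalizer (K : Set G)) (hxS : x ∈ Subgroup.normalizer (S : Set G))
    (hfx : Fix K θ.1 x) : x ∈ Subgroup.normalizer (C : Set G) ∧ Fix C φ.1 x := by
  classical
  have hmem : ∀ z : G, z ∈ Subgroup.normalizer (K : Set G) → z ∈ Subgroup.normalizer (S : Set G) →
      ∀ c ∈ C, z * c * z⁻¹ ∈ C := fun z hzK hzS c hc => by
    rw [hC] at hc ⊢
    exact ⟨conj_mem hzK hc.1, centralizer_conj hzS hc.2⟩
  have hxC : x ∈ Subgroup.normalizer (C : Set G) := by
    rw [Subgroup.mem_normalizer_iff]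
    refine fun c => ⟨fun hc => hmem x hxK hxS c hc, fun hc => ?_⟩
    have h := hmem x⁻¹ (Subgroup.inv_mem _ hxK) (Subgroup.inv_mem _ hxS) _ hc
    simpa [mul_assoc] using h
  refine ⟨hxC, fun k l hkl => ?_⟩
  have := Fintype.ofFinite K
  have := Fintype.ofFinite C
  let e : C ≃* C :=
    { toFun := fun c => ⟨x * c * x⁻¹, conj_mem hxC c.2⟩
      invFun := fun c => ⟨x⁻¹ * c * x⁻¹⁻¹,
        conj_mem ((Subgroup.normalizer (C : Set G)).inv_mem hxC) c.2⟩
      left_inv := fun c => Subtype.ext (by simp [mul_assoc])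
      right_inv := fun c => Subtype.ext (by simp [mul_assoc])
      map_mul' := fun a b => Subtype.ext (by simp [mul_assoc]) }
  have hφ' : ¬ p ∣ resMultLe hCK θ (H43.irrCongr e φ) := by
    rw [resMultLe_def] at hφ ⊢
    have h := H45.mult_congr e (fun c : C => θ.1 (Subgroup.inclusion hCK c)) φ
    rw [show (fun c : C => θ.1 (Subgroup.inclusion hCK c)) =
      fun c => θ.1 (Subgroup.inclusion hCK (e c)) from
      funext fun c => (hfx (Subgroup.inclusion hCK c) _ rfl).symm, h]
    exact hφ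
  obtain ⟨φ₀, -, huniq⟩ := existsUnique_glau hS hK hSK hC hCK θ hθ
  have heq : H43.irrCongr e φ = φ := (huniq _ hφ').trans (huniq _ hφ).symm
  have h := congrArg (fun η : Cfsg.IrrCharacter C => η.1 k) heq
  rw [show l = e k from Subtype.ext hkl]
  exact h

/-- An irreducible character over an invariant character with cyclic quotient restricts to it. -/
theorem restrict_eq_of_cyclic {G : Type u} [Group G] [Fintype G] (N : Subgroup G) [N.Normal]
    [Fintype N] (hcyc : IsCyclic (G ⧸ N)) (φ : Cfsg.IrrCharacter N)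
    (hinv : ∀ (g : G) (n : N), φ.1 (MulAut.conjNormal g n) = φ.1 n) (ψ : Cfsg.IrrCharacter G)
    (hψ : H43.mult (fun n : N => ψ.1 n) φ ≠ 0) : ∀ n : N, ψ.1 n = φ.1 n := by
  classical
  have := Fintype.ofFinite (G ⧸ N)
  obtain ⟨m, σ, hσ, e⟩ := φ.2
  obtain ⟨χ, hχ, hres⟩ := H39.exists_ext_of_cyclic_quotient σ hcyc fun g n => by
    rw [e]; exact hinv g n
  set E : Cfsg.IrrCharacter G := ⟨χ, hχ⟩
  have hE : (fun n : N => E.1 n) = φ.1 := funext fun n => (hres n).trans (congrFun e n)
  have h : Cfsg.classInner (fun n : N => ψ.1 n) (fun n : N => E.1 n) ≠ 0 := by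
    rw [hE, H43.classInner_eq_mult (φ := fun n : N => ψ.1 n)
      (H26.isCharacter_comp (H26.irr_isCharacter ψ) N.subtype)]
    exact Nat.cast_ne_zero.2 hψ
  obtain ⟨η, hη⟩ := H45.exists_extMul N E (hE.symm ▸ φ.2) ψ h
  intro n
  have h1 : η.1 1 = 1 := by
    obtain ⟨k, ρ, hρ, e'⟩ := η.2
    obtain ⟨g, hg⟩ := hcyc.exists_generator
    have hcomm : ∀ a b : G ⧸ N, ρ a * ρ b = ρ b * ρ a := fun a b => by
      obtain ⟨i, rfl⟩ := Subgroup.mem_zpowers_iff.1 (hg a)
      obtain ⟨j, rfl⟩ := Subgroup.mem_zpowers_iff.1 (hg b)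
      rw [← map_mul, ← map_mul, (Commute.zpow_zpow_self g i j).eq]
    rw [← e', Representation.char_one, H25.finrank_eq_one_of_commute ρ hcomm, Nat.cast_one]
  rw [← congrFun hη n, H45.extMul, (QuotientGroup.eq_one_iff (n : G)).2 n.2, h1, mul_one]
  exact congrFun hE n

variable [Finite G]

theorem omega_one (K : Subgroup G) {y : G} (hy : y ∈ Subgroup.normalizer (K : Set G))
    (θ : Cfsg.IrrCharacter K) (hfy : Fix K θ.1 y) : omega K θ.1 1 y = 1 := by
  have h1 := Subgroup.one_mem (Subgroup.normalizer (K : Set G))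
  have h1K : ⁅(1 : G), y⁆ ∈ K := by rw [commutatorElement_one_left]; exact K.one_mem
  obtain ⟨hYn, hxY⟩ := sup_zpowers_normalizer h1 hy h1K
  obtain ⟨χ, hext⟩ := exists_ext_zpowers K hy θ hfy
  rw [omega_eq_of_twist K _ le_sup_left hYn h1 hxY
    (le_sup_right (α := Subgroup G) (Subgroup.mem_zpowers y)) h1K θ χ hext 1
    (fun k => rfl) fun w => ?_]
  · simp
  · simp

theorem fix_one (K : Subgroup G) (θ : K → ℂ) : Fix K θ 1 := fun k l h => by
  rw [show l = k from Subtype.ext (by simpa using h)]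

omit [Finite G] in
theorem fix_mul {K : Subgroup G} {θ : K → ℂ} {x x' : G}
    (hx' : x' ∈ Subgroup.normalizer (K : Set G)) (h : Fix K θ x) (h' : Fix K θ x') :
    Fix K θ (x * x') := fun k l hl => by
  rw [h ⟨x' * k * x'⁻¹, conj_mem hx' k.2⟩ l (by rw [hl]; simp [mul_assoc]), h' k _ rfl]

theorem commutator_pow_mem {K : Subgroup G} {x y : G}
    (hx : x ∈ Subgroup.normalizer (K : Set G)) (hxy : ⁅x, y⁆ ∈ K) (n : ℕ) : ⁅x ^ n, y⁆ ∈ K := by
  induction n with
  | zero => rw [pow_zero, commutatorElement_one_left]; exact K.one_mem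
  | succ n ih => rw [pow_succ']; exact commutator_mul_mem hx hxy ih

theorem omega_pow (K : Subgroup G) {x y : G} (hx : x ∈ Subgroup.normalizer (K : Set G))
    (hy : y ∈ Subgroup.normalizer (K : Set G)) (hxy : ⁅x, y⁆ ∈ K) (θ : Cfsg.IrrCharacter K)
    (hfx : Fix K θ.1 x) (hfy : Fix K θ.1 y) (n : ℕ) :
    Fix K θ.1 (x ^ n) ∧ omega K θ.1 (x ^ n) y = omega K θ.1 x y ^ n := by
  induction n with
  | zero => rw [pow_zero, pow_zero]; exact ⟨fix_one K θ.1, omega_one K hy θ hfy⟩
  | succ n ih =>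
    have hn := Subgroup.pow_mem (Subgroup.normalizer (K : Set G)) hx n
    rw [pow_succ x, pow_succ (omega K θ.1 x y)]
    exact ⟨fix_mul hx ih.1 hfx,
      (omega_mul K hn hx hy (commutator_pow_mem hx hxy n) hxy θ ih.1 hfx hfy).trans (by rw [ih.2])⟩

/-- A twisting character is trivial when the two elements have coprime orders. -/
theorem omega_eq_one_of_coprime (K : Subgroup G) {x y : G}
    (hx : x ∈ Subgroup.normalizer (K : Set G)) (hy : y ∈ Subgroup.normalizer (K : Set G))
    (hxy : ⁅x, y⁆ ∈ K) (θ : Cfsg.IrrCharacter K) (hfx : Fix K θ.1 x) (hfy : Fix K θ.1 y)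
    (hcop : (orderOf x).Coprime (orderOf y)) : omega K θ.1 x y = 1 := by
  have h1 := (omega_pow K hx hy hxy θ hfx hfy (orderOf x)).2
  rw [pow_orderOf_eq_one, omega_one K hy θ hfy] at h1
  obtain ⟨hYn, hxY⟩ := sup_zpowers_normalizer hx hy hxy
  obtain ⟨χ, hext⟩ := exists_ext_zpowers K hy θ hfy
  obtain ⟨α, hα, htw⟩ := exists_twist K hx hy hxy θ hfx χ hext
  have h2 := omega_eq_of_twist K _ le_sup_left hYn hx hxY
    (le_sup_right (α := Subgroup G) (Subgroup.mem_zpowers y)) hxy θ χ hext α hα htw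
  have h3 : omega K θ.1 x y ^ orderOf y = 1 := by
    rw [h2, ← Units.val_pow_eq_pow_val, ← map_pow,
      show (⟨y, le_sup_right (α := Subgroup G) (Subgroup.mem_zpowers y)⟩ :
        (K ⊔ Subgroup.zpowers y : Subgroup G)) ^ orderOf y = 1 from
        Subtype.ext (by simp [pow_orderOf_eq_one]), map_one, Units.val_one]
  exact eq_one_of_pow_eq_one_coprime h1.symm h3 hcop
where
  eq_one_of_pow_eq_one_coprime {c : ℂ} {a b : ℕ} (ha : c ^ a = 1) (hb : c ^ b = 1)
      (h : a.Coprime b) : c = 1 := by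
    have := pow_gcd_eq_one.2 ⟨ha, hb⟩
    rwa [h.gcd_eq_one, pow_one] at this

theorem not_dvd_card_sup {p : ℕ} [hp : Fact p.Prime] {K : Subgroup G} {y : G}
    (hy : y ∈ Subgroup.normalizer (K : Set G)) (hK : ¬ p ∣ Nat.card K) (hpy : ¬ p ∣ orderOf y) :
    ¬ p ∣ Nat.card (K ⊔ Subgroup.zpowers y : Subgroup G) := by
  intro h
  obtain ⟨z, hz⟩ := exists_prime_orderOf_dvd_card' p h
  have hmem : (z : G) ∈ ((K ⊔ Subgroup.zpowers y : Subgroup G) : Set G) := z.2
  rw [Subgroup.coe_mul_of_right_le_normalizer_left K (Subgroup.zpowers y)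
    (Subgroup.zpowers_le.2 hy)] at hmem
  obtain ⟨k, hk, w, hw, he⟩ := hmem
  simp only at he
  have hzy : (z : G) ∈ K := by
    let N := Subgroup.normalizer (K : Set G)
    let k' : N := ⟨k, Subgroup.le_normalizer hk⟩
    let w' : N := ⟨w, Subgroup.zpowers_le.2 hy hw⟩
    have hzN : orderOf (k' * w') = p := by
      rw [← Subgroup.orderOf_coe, Subgroup.coe_mul, show (k' : G) * (w' : G) = z from he,
        Subgroup.orderOf_coe, hz]
    set q := QuotientGroup.mk' (K.subgroupOf N)
    have hq : q (k' * w') = q w' := by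
      rw [map_mul, show q k' = 1 from (QuotientGroup.eq_one_iff k').2 hk, one_mul]
    have hdvd : orderOf (q w') ∣ orderOf y := by
      refine (orderOf_map_dvd q w').trans ?_
      rw [← Subgroup.orderOf_coe]
      exact orderOf_dvd_of_mem_zpowers hw
    have hdvd' : orderOf (q w') ∣ p := by
      rw [← hq, ← hzN]; exact orderOf_map_dvd q _
    rcases (Nat.dvd_prime hp.out).1 hdvd' with h1 | h1
    · rw [orderOf_eq_one_iff, ← hq] at h1
      have h2 : k' * w' ∈ K.subgroupOf N := (QuotientGroup.eq_one_iff _).1 h1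
      rw [← he]
      exact h2
    · exact absurd (h1 ▸ hdvd) hpy
  have h2 := orderOf_dvd_natCard (⟨z, hzy⟩ : K)
  rw [← Subgroup.orderOf_coe, Subgroup.coe_mk, Subgroup.orderOf_coe, hz] at h2
  exact hK h2

/-- The step: `A` is centralised by `y`. -/
theorem omega_step {p : ℕ} [hp : Fact p.Prime] {K A C : Subgroup G} (hA : IsPGroup p A)
    (hK : ¬ p ∣ Nat.card K) (hAK : A ≤ Subgroup.normalizer (K : Set G))
    (hC : C = K ⊓ Subgroup.centralizer (A : Set G)) (hCK : C ≤ K) {x y : G}
    (hxK : x ∈ Subgroup.normalizer (K : Set G)) (hyK : y ∈ Subgroup.normalizer (K : Set G))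
    (hxA : x ∈ Subgroup.normalizer (A : Set G)) (hyA : y ∈ Subgroup.centralizer (A : Set G))
    (hxyC : ⁅x, y⁆ ∈ C) (hpy : ¬ p ∣ orderOf y) (θ : Cfsg.IrrCharacter K)
    (hθA : ∀ a ∈ A, Fix K θ.1 a) (hfx : Fix K θ.1 x) (hfy : Fix K θ.1 y)
    (φ : Cfsg.IrrCharacter C) (hφ : ¬ p ∣ resMultLe hCK θ φ) :
    omega K θ.1 x y = omega C φ.1 x y := by
  classical
  have := Fintype.ofFinite G
  have hxy : ⁅x, y⁆ ∈ K := hCK hxyC
  obtain ⟨hYn, hxY⟩ := sup_zpowers_normalizer hxK hyK hxy
  have hyA' : y ∈ Subgroup.normalizer (A : Set G) := by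
    rw [Subgroup.mem_normalizer_iff]
    intro a
    rw [Subgroup.mem_centralizer_iff] at hyA
    constructor
    · intro ha; rwa [← hyA a ha, mul_inv_cancel_right]
    · intro ha
      have h := hyA _ ha
      have : y * a * y⁻¹ = a := by
        calc y * a * y⁻¹ = y⁻¹ * (y * (y * a * y⁻¹)) := by group
          _ = y⁻¹ * ((y * a * y⁻¹) * y) := by rw [h]
          _ = a := by group
      rwa [this] at ha
  obtain ⟨hxC, hfxC⟩ := fix_glau hA hK hAK hC hCK hθA hφ hxK hxA hfx
  obtain ⟨hyC, hfyC⟩ := fix_glau hA hK hAK hC hCK hθA hφ hyK hyA' hfy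
  obtain ⟨hCn, hxC'⟩ := sup_zpowers_normalizer hxC hyC hxyC
  obtain ⟨χ, hext⟩ := exists_ext_zpowers K hyK θ hfy
  obtain ⟨α, hα, htw⟩ := exists_twist K hxK hyK hxy θ hfx χ hext
  let Y := K ⊔ Subgroup.zpowers y
  let C' := C ⊔ Subgroup.zpowers y
  have hyY : y ∈ Y := le_sup_right (α := Subgroup G) (Subgroup.mem_zpowers y)
  have hay : ∀ a ∈ A, ⁅a, y⁆ ∈ K := fun a ha => by
    rw [commutatorElement_eq_one_iff_mul_comm.2 (Subgroup.mem_centralizer_iff.1 hyA a ha)]
    exact K.one_mem
  have hAY : A ≤ Subgroup.normalizer (Y : Set G) := fun a ha =>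
    (sup_zpowers_normalizer (hAK ha) hyK (hay a ha)).2
  have hC'Y : C' ≤ Y := sup_le_sup_right hCK _
  have hC'eq : C' = Y ⊓ Subgroup.centralizer (A : Set G) := by
    refine le_antisymm (le_inf hC'Y (sup_le (hC ▸ inf_le_right) (Subgroup.zpowers_le.2 hyA))) ?_
    rintro w ⟨hw, hwA⟩
    have hw' : w ∈ ((Y : Subgroup G) : Set G) := hw
    rw [Subgroup.coe_mul_of_right_le_normalizer_left K (Subgroup.zpowers y)
      (Subgroup.zpowers_le.2 hyK)] at hw'
    obtain ⟨k, hk, v, hv, rfl⟩ := hw'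
    have hvA : v ∈ Subgroup.centralizer (A : Set G) := Subgroup.zpowers_le.2 hyA hv
    have hkA : k ∈ Subgroup.centralizer (A : Set G) := by
      have := Subgroup.mul_mem _ hwA (Subgroup.inv_mem _ hvA)
      simpa using this
    exact Subgroup.mul_mem _ (le_sup_left (α := Subgroup G) (hC ▸ ⟨hk, hkA⟩ : k ∈ C))
      (le_sup_right (α := Subgroup G) hv)
  have hpY := not_dvd_card_sup (p := p) hyK hK hpy
  have hχA : ∀ a ∈ A, Fix Y χ.1 a := by
    intro a ha k l hl
    obtain ⟨β, hβ, hbw⟩ := exists_twist K (hAK ha) hyK (hay a ha) θ (hθA a ha) χ hext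
    have hb1 : omega K θ.1 a y = 1 := by
      refine omega_eq_one_of_coprime K (hAK ha) hyK (hay a ha) θ (hθA a ha) hfy ?_
      obtain ⟨i, hi⟩ := hA ⟨a, ha⟩
      have h0 : orderOf a ∣ p ^ i := orderOf_dvd_of_pow_eq_one (congrArg Subtype.val hi)
      exact Nat.Coprime.coprime_dvd_left h0
        (((Nat.Prime.coprime_iff_not_dvd hp.out).2 hpy).pow_left i)
    rw [omega_eq_of_twist K Y le_sup_left (sup_zpowers_normalizer (hAK ha) hyK (hay a ha)).1
      (hAK ha) (hAY ha) hyY (hay a ha) θ χ hext β hβ hbw] at hb1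
    have hle : Y ≤ β.ker.map Y.subtype := sup_le
      (fun z hz => ⟨⟨z, le_sup_left (α := Subgroup G) hz⟩, hβ ⟨z, hz⟩, rfl⟩)
      (Subgroup.zpowers_le.2 ⟨⟨y, hyY⟩, Units.ext hb1, rfl⟩)
    obtain ⟨k', hk', he⟩ := hle k.2
    rw [Subtype.ext he] at hk'
    rw [show l = ⟨a * k * a⁻¹, conj_mem (hAY ha) k.2⟩ from Subtype.ext hl, hbw k,
      MonoidHom.mem_ker.1 hk', Units.val_one, one_mul]
  obtain ⟨β, hβ, -⟩ := existsUnique_glau hA hpY hAY hC'eq hC'Y χ hχA
  -- the restriction of `β` to `C`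
  have hβC : ∀ c : C, β.1 (Subgroup.inclusion le_sup_left c) = φ.1 c := by
    have hnorm : (C.subgroupOf C').Normal :=
      (Subgroup.normal_subgroupOf_iff_le_normalizer le_sup_left).2 hCn
    let e := Subgroup.subgroupOfEquivOfLe (H := C) (K := C') le_sup_left
    have hne : H43.mult (fun n : C.subgroupOf C' => β.1 n) (H43.irrCongr e φ) ≠ 0 := by
      intro h0
      apply hφ
      rw [resMultLe_def]
      rw [show (fun c : C => θ.1 (Subgroup.inclusion hCK c)) = fun c : C =>
        (fun z : C' => χ.1 (Subgroup.inclusion hC'Y z)) (Subgroup.inclusion le_sup_left c) from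
        funext fun c => (hext _).symm]
      have hcomp := H43.mult_comp (Subgroup.inclusion (le_sup_left : C ≤ C'))
        (φ := fun z : C' => χ.1 (Subgroup.inclusion hC'Y z))
        (H26.isCharacter_comp (H26.irr_isCharacter χ) (Subgroup.inclusion hC'Y)) φ
      rw [hcomp]
      refine Finset.dvd_sum fun η _ => ?_
      by_cases hη : η = β
      · subst hη
        have h1 := H45.mult_congr e
          (fun d : C => η.1 (Subgroup.inclusion (le_sup_left : C ≤ C') d)) φ
        rw [show (fun n : C.subgroupOf C' =>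
          η.1 (Subgroup.inclusion (le_sup_left : C ≤ C') (e n))) =
          fun n : C.subgroupOf C' => η.1 n from funext fun n => rfl, h0] at h1
        rw [← h1, mul_zero]
        exact dvd_zero p
      · obtain ⟨η₀, -, huniq⟩ := existsUnique_glau hA hpY hAY hC'eq hC'Y χ hχA
        by_contra hnd
        refine hη ((huniq η ?_).trans (huniq β hβ).symm)
        show ¬ p ∣ resMultLe hC'Y χ η
        rw [resMultLe_def]
        exact fun h => hnd (h.mul_right _)
    have hcyc : IsCyclic (C' ⧸ C.subgroupOf C') := by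
      refine ⟨⟨((⟨y, le_sup_right (α := Subgroup G) (Subgroup.mem_zpowers y)⟩ : C') :
        C' ⧸ C.subgroupOf C'), fun q => ?_⟩⟩
      obtain ⟨g, rfl⟩ := QuotientGroup.mk_surjective q
      have hg : (g : G) ∈ ((C' : Subgroup G) : Set G) := g.2
      rw [Subgroup.coe_mul_of_right_le_normalizer_left C (Subgroup.zpowers y)
        (Subgroup.zpowers_le.2 hyC)] at hg
      obtain ⟨c, hc, v, ⟨j, rfl⟩, he⟩ := hg
      refine ⟨j, ?_⟩
      show _ ^ j = (g : C' ⧸ C.subgroupOf C')
      rw [← QuotientGroup.mk_zpow, QuotientGroup.eq, Subgroup.mem_subgroupOf]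
      simp only [Subgroup.coe_mul, Subgroup.coe_inv, Subgroup.coe_zpow]
      have hgy : (g : G) = c * y ^ j := he.symm
      rw [hgy, show (y ^ j)⁻¹ * (c * y ^ j) = (y ^ j)⁻¹ * c * ((y ^ j)⁻¹)⁻¹ by group]
      exact conj_mem ((Subgroup.normalizer (C : Set G)).inv_mem (Subgroup.zpow_mem _ hyC j)) hc
    have hinv : ∀ (g : C') (n : C.subgroupOf C'),
        (H43.irrCongr e φ).1 (MulAut.conjNormal g n) = (H43.irrCongr e φ).1 n := by
      intro g n
      have hfix : Fix C φ.1 (g : G) := by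
        have hg : (g : G) ∈ ((C' : Subgroup G) : Set G) := g.2
        rw [Subgroup.coe_mul_of_right_le_normalizer_left C (Subgroup.zpowers y)
          (Subgroup.zpowers_le.2 hyC)] at hg
        obtain ⟨c, hc, v, hv, he⟩ := hg
        obtain ⟨j, rfl⟩ : v ∈ Submonoid.powers y := mem_powers_iff_mem_zpowers.2 hv
        rw [show (g : G) = c * y ^ j from he.symm]
        refine fix_mul (Subgroup.pow_mem _ hyC j) (fun k l h => ?_)
          (omega_pow C hyC hyC (self_commutator_mem C y) φ hfyC hfyC j).1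
        rw [show l = ⟨c, hc⟩ * k * ⟨c, hc⟩⁻¹ from Subtype.ext h, H26.irr_conj]
      exact hfix (e n) (e (MulAut.conjNormal g n)) rfl
    intro c
    exact restrict_eq_of_cyclic (C.subgroupOf C') hcyc (H43.irrCongr e φ) hinv β hne (e.symm c)
  -- equivariance
  have hyC' : y ∈ C' := le_sup_right (α := Subgroup G) (Subgroup.mem_zpowers y)
  let α' : C' →* ℂˣ := α.comp (Subgroup.inclusion hC'Y)
  have htwC : ∀ w : C', β.1 ⟨x * w * x⁻¹, conj_mem hxC' w.2⟩ = (α' w : ℂ) * β.1 w := by
    let e : C' ≃* C' :=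
      { toFun := fun w => ⟨x * w * x⁻¹, conj_mem hxC' w.2⟩
        invFun := fun w => ⟨x⁻¹ * w * x⁻¹⁻¹,
          conj_mem ((Subgroup.normalizer (C' : Set G)).inv_mem hxC') w.2⟩
        left_inv := fun w => Subtype.ext (by simp [mul_assoc])
        right_inv := fun w => Subtype.ext (by simp [mul_assoc])
        map_mul' := fun a b => Subtype.ext (by simp [mul_assoc]) }
    set f : C' → ℂ := fun w => χ.1 (Subgroup.inclusion hC'Y w) with hf
    have hfc : Cfsg.IsCharacter C' f :=
      H26.isCharacter_comp (H26.irr_isCharacter χ) (Subgroup.inclusion hC'Y)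
    have hmult : H43.mult (fun w => f (e w)) (H43.irrTwist β α') = H43.mult f β := by
      refine H43.mult_eq_of_classInner ?_
      rw [← H43.classInner_eq_mult hfc, Cfsg.classInner, Cfsg.classInner]
      congr 1
      refine Finset.sum_congr rfl fun w _ => ?_
      rw [H43.irrTwist_apply, show f (e w) = (α' w : ℂ) * f w from htw (Subgroup.inclusion hC'Y w), map_mul]
      linear_combination f w * conj (β.1 w) * H43.hom_mul_conj α' w
    have hmult' := H45.mult_congr e f β
    obtain ⟨η₀, -, huniq⟩ := existsUnique_glau hA hpY hAY hC'eq hC'Y χ hχA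
    have hβ' := hβ
    rw [resMultLe_def] at hβ'
    -- both characters are the only constituent of `f ∘ e` of multiplicity prime to `p`
    have hun : ∀ η, ¬ p ∣ H43.mult (fun w => f (e w)) η → η = H43.irrCongr e β := by
      intro η hη
      have h2 : ¬ p ∣ H43.mult f (H43.irrCongr e.symm η) := by
        have h3 := H45.mult_congr e f (H43.irrCongr e.symm η)
        rw [show H43.irrCongr e (H43.irrCongr e.symm η) = η from
          (H43.irrCongrEquiv e).apply_symm_apply η] at h3
        rwa [← h3]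
      have h4 : H43.irrCongr e.symm η = β := by
        refine (huniq _ ?_).trans (huniq β hβ).symm
        show ¬ p ∣ resMultLe hC'Y χ _
        rw [resMultLe_def]; exact h2
      rw [← h4]
      exact ((H43.irrCongrEquiv e).apply_symm_apply η).symm
    have heq : H43.irrTwist β α' = H43.irrCongr e β := hun _ (by rw [hmult]; exact hβ')
    intro w
    have h := congrArg (fun η : Cfsg.IrrCharacter C' => η.1 w) heq
    rw [H43.irrTwist_apply] at h
    rw [mul_comm]
    exact h.symm
  rw [omega_eq_of_twist K Y le_sup_left hYn hxK hxY hyY hxy θ χ hext α hα htw,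
    omega_eq_of_twist C C' le_sup_left hCn hxC hxC' hyC' hxyC φ β hβC α'
      (fun c => hα (Subgroup.inclusion hCK c)) htwC]
  rfl

end Cfsg.Agent.H63.McKay
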