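import Cfsg.Agent.H63.McKay.Compare

/-!
# The commutator sum is invariant under the Glauberman correspondence

Induction on the `p`-group: a minimal invariant elementary abelian central subgroup `A` is acted on
by the abelian operator group through a cyclic group, which reduces the comparison to pairs with
one member centralising `A`.
-/

set_option autoImplicit false

open scoped ComplexConjugate commutatorElement

namespace Cfsg.Agent.H63.McKay

universe u

section Cyclic

variable {G : Type u} [Group G] [Finite G]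

/-- An abelian group acting irreducibly on an abelian group acts through a cyclic group: some
element together with the centraliser generates. -/
theorem exists_generator_mod_centralizer (A E : Subgroup G) (hA : A ≠ ⊥)
    (hAc : ∀ a ∈ A, ∀ b ∈ A, Commute a b)
    (hEc : ∀ a ∈ E, ∀ b ∈ E, ⁅a, b⁆ ∈ Subgroup.centralizer (A : Set G))
    (hEA : E ≤ Subgroup.normalizer (A : Set G))
    (hmin : ∀ B : Subgroup G, B ≤ A → E ≤ Subgroup.normalizer (B : Set G) → B = ⊥ ∨ B = A) :
    ∃ x₀ ∈ E, ∀ e ∈ E, ∃ j : ℕ, ∃ u ∈ E, u ∈ Subgroup.centralizer (A : Set G) ∧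
      e = x₀ ^ j * u := by
  classical
  letI : CommGroup A :=
    { (inferInstance : Group A) with
      mul_comm := fun a b => Subtype.ext (hAc a a.2 b b.2).eq }
  let V := Additive A
  let ρ : E →* AddMonoid.End V :=
    { toFun := fun e =>
        { toFun := fun v => Additive.ofMul
            (⟨(e : G) * (Additive.toMul v : A) * (e : G)⁻¹,
              conj_mem (hEA e.2) (Additive.toMul v).2⟩ : A)
          map_zero' := by
            apply Additive.toMul.injective
            exact Subtype.ext (by simp)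
          map_add' := fun a b => by
            apply Additive.toMul.injective
            apply Subtype.ext
            show (e : G) * (((Additive.toMul a : A) : G) * ((Additive.toMul b : A) : G)) * (e : G)⁻¹
              = (e : G) * ((Additive.toMul a : A) : G) * (e : G)⁻¹ *
                ((e : G) * ((Additive.toMul b : A) : G) * (e : G)⁻¹)
            group }
      map_one' := by
        refine AddMonoidHom.ext fun v => Additive.toMul.injective (Subtype.ext ?_)
        show ((1 : E) : G) * ((Additive.toMul v : A) : G) * ((1 : E) : G)⁻¹ =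
          ((Additive.toMul v : A) : G)
        simp
      map_mul' := fun a b => by
        refine AddMonoidHom.ext fun v => Additive.toMul.injective (Subtype.ext ?_)
        show ((a * b : E) : G) * ((Additive.toMul v : A) : G) * ((a * b : E) : G)⁻¹ =
          (a : G) * ((b : G) * ((Additive.toMul v : A) : G) * (b : G)⁻¹) * (a : G)⁻¹
        simp [mul_assoc] }
  have hcomm : ∀ a ∈ Set.range ρ, ∀ b ∈ Set.range ρ, a * b = b * a := by
    rintro _ ⟨a, rfl⟩ _ ⟨b, rfl⟩
    refine AddMonoidHom.ext fun v => Additive.toMul.injective (Subtype.ext ?_)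
    show (a : G) * ((b : G) * ((Additive.toMul v : A) : G) * (b : G)⁻¹) * (a : G)⁻¹ =
      (b : G) * ((a : G) * ((Additive.toMul v : A) : G) * (a : G)⁻¹) * (b : G)⁻¹
    have hmem : (b : G) * ((a : G) * ((Additive.toMul v : A) : G) * (a : G)⁻¹) * (b : G)⁻¹ ∈ A :=
      conj_mem (hEA b.2) (conj_mem (hEA a.2) (Additive.toMul v).2)
    have h := Subgroup.mem_centralizer_iff.1 (hEc a a.2 b b.2) _ hmem
    calc (a : G) * ((b : G) * ((Additive.toMul v : A) : G) * (b : G)⁻¹) * (a : G)⁻¹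
        = ⁅(a : G), (b : G)⁆ *
            ((b : G) * ((a : G) * ((Additive.toMul v : A) : G) * (a : G)⁻¹) * (b : G)⁻¹) *
            ⁅(a : G), (b : G)⁆⁻¹ := by simp only [commutatorElement_def]; group
      _ = _ := by rw [← h, mul_inv_cancel_right]
  let R := Subring.closure (Set.range ρ)
  letI : CommRing R := Subring.closureCommRingOfComm hcomm
  have : Nontrivial V := by
    have : Nontrivial A := (Subgroup.nontrivial_iff_ne_bot A).2 hA
    exact Additive.toMul.nontrivial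
  have : Nontrivial R := ⟨⟨0, 1, fun h => by
    obtain ⟨v, hv⟩ := exists_ne (0 : V)
    have h1 := congrArg (fun r : R => (r : AddMonoid.End V) v) h
    simp only [Subring.coe_zero, Subring.coe_one] at h1
    exact hv h1.symm⟩⟩
  have hker : ∀ r : R, r ≠ 0 → ∀ v : V, (r : AddMonoid.End V) v = 0 → v = 0 := by
    intro r hr v hv
    let B : Subgroup G :=
      { carrier := {g | ∃ h : g ∈ A, (r : AddMonoid.End V) (Additive.ofMul ⟨g, h⟩) = 0}
        one_mem' := ⟨A.one_mem, map_zero _⟩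
        mul_mem' := fun {a b} ha hb => by
          obtain ⟨ha, ha'⟩ := ha
          obtain ⟨hb, hb'⟩ := hb
          refine ⟨A.mul_mem ha hb, ?_⟩
          rw [show Additive.ofMul (⟨a * b, A.mul_mem ha hb⟩ : A) =
            Additive.ofMul (⟨a, ha⟩ : A) + Additive.ofMul ⟨b, hb⟩ from rfl, map_add, ha', hb',
            add_zero]
        inv_mem' := fun {a} ha => by
          obtain ⟨ha, ha'⟩ := ha
          refine ⟨A.inv_mem ha, ?_⟩
          rw [show Additive.ofMul (⟨a⁻¹, A.inv_mem ha⟩ : A) = -Additive.ofMul (⟨a, ha⟩ : A) from rfl,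
            map_neg, ha', neg_zero] }
    have hstep : ∀ e ∈ E, ∀ g ∈ B, e * g * e⁻¹ ∈ B := by
      rintro e he g ⟨hg, hg'⟩
      refine ⟨conj_mem (hEA he) hg, ?_⟩
      have hc : (⟨ρ ⟨e, he⟩, Subring.subset_closure ⟨_, rfl⟩⟩ : R) * r =
          r * ⟨ρ ⟨e, he⟩, Subring.subset_closure ⟨_, rfl⟩⟩ := mul_comm _ _
      have h2 := congrArg (fun s : R => (s : AddMonoid.End V) (Additive.ofMul ⟨g, hg⟩)) hc
      simp only [Subring.coe_mul] at h2
      change ρ ⟨e, he⟩ ((r : AddMonoid.End V) _) = (r : AddMonoid.End V) (ρ ⟨e, he⟩ _) at h2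
      rw [hg', map_zero] at h2
      exact h2.symm
    rcases hmin B (fun g hg => hg.1) (fun e he => Subgroup.mem_normalizer_iff.2 fun g =>
      ⟨hstep e he g, fun h => by
        have h2 := hstep e⁻¹ (E.inv_mem he) _ h
        simpa [mul_assoc] using h2⟩) with hB | hB
    · have hmem : ((Additive.toMul v : A) : G) ∈ B := ⟨(Additive.toMul v).2, hv⟩
      rw [hB, Subgroup.mem_bot] at hmem
      apply Additive.toMul.injective
      exact Subtype.ext hmem
    · exfalso
      apply hr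
      refine Subtype.ext (AddMonoidHom.ext fun w => ?_)
      have hw : ((Additive.toMul w : A) : G) ∈ B := by rw [hB]; exact (Additive.toMul w).2
      exact hw.2
  have : NoZeroDivisors R := ⟨by
    intro a b h
    by_contra hne
    push Not at hne
    apply hne.2
    refine Subtype.ext (AddMonoidHom.ext fun v => hker a hne.1 _ ?_)
    exact congrArg (fun r : R => (r : AddMonoid.End V) v) h⟩
  have : IsDomain R := NoZeroDivisors.to_isDomain R
  let f : E →* R :=
    { toFun := fun e => ⟨ρ e, Subring.subset_closure ⟨e, rfl⟩⟩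
      map_one' := Subtype.ext (map_one ρ)
      map_mul' := fun a b => Subtype.ext (map_mul ρ a b) }
  have : IsCyclic (E ⧸ f.toHomUnits.ker) :=
    isCyclic_of_subgroup_isDomain
      ((Units.coeHom R).comp (QuotientGroup.kerLift f.toHomUnits))
      (Units.val_injective.comp (QuotientGroup.kerLift_injective _))
  obtain ⟨q, hq⟩ := IsCyclic.exists_monoid_generator (α := E ⧸ f.toHomUnits.ker)
  obtain ⟨x₀, rfl⟩ := QuotientGroup.mk_surjective q
  refine ⟨x₀, x₀.2, fun e he => ?_⟩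
  obtain ⟨j, hj⟩ := hq ((⟨e, he⟩ : E) : E ⧸ f.toHomUnits.ker)
  simp only at hj
  rw [← QuotientGroup.mk_pow, QuotientGroup.eq] at hj
  set u : E := (x₀ ^ j)⁻¹ * ⟨e, he⟩
  refine ⟨j, u, u.2, ?_, by simp [u]⟩
  rw [Subgroup.mem_centralizer_iff]
  intro a ha
  have h1 : ρ u = 1 := by
    have h := congrArg (fun z : Rˣ => ((z : R) : AddMonoid.End V)) (MonoidHom.mem_ker.1 hj)
    exact h
  have h2 : (Additive.toMul (ρ u (Additive.ofMul (⟨a, ha⟩ : A))) : A) = ⟨a, ha⟩ := by
    rw [h1]; rfl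
  have h3 : (u : G) * a * (u : G)⁻¹ = a := congrArg Subtype.val h2
  exact (mul_inv_eq_iff_eq_mul.1 h3).symm

end Cyclic

section Bichar

variable {G : Type u} [Group G] [Finite G]

/-- Agreement on the pairs with second member centralising, and on the diagonal, gives agreement
everywhere. -/
theorem omega_eq_of_centralizing (K C : Subgroup G) (E : Subgroup G)
    (θ : Cfsg.IrrCharacter K) (φ : Cfsg.IrrCharacter C)
    (hEK : E ≤ Subgroup.normalizer (K : Set G)) (hEC : E ≤ Subgroup.normalizer (C : Set G))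
    (hEc : ∀ a ∈ E, ∀ b ∈ E, ⁅a, b⁆ ∈ C) (hCK : C ≤ K) (hfK : ∀ e ∈ E, Fix K θ.1 e)
    (hfC : ∀ e ∈ E, Fix C φ.1 e) (E₀ : Subgroup G) {x₀ : G} (hx₀ : x₀ ∈ E)
    (hgen : ∀ e ∈ E, ∃ j : ℕ, ∃ u ∈ E, u ∈ E₀ ∧ e = x₀ ^ j * u)
    (h : ∀ a ∈ E, ∀ v ∈ E, v ∈ E₀ → omega K θ.1 a v = omega C φ.1 a v) :
    ∀ a ∈ E, ∀ b ∈ E, omega K θ.1 a b = omega C φ.1 a b := by
  have hmul : ∀ a ∈ E, ∀ a' ∈ E, ∀ b ∈ E, omega K θ.1 a b = omega C φ.1 a b →
      omega K θ.1 a' b = omega C φ.1 a' b → omega K θ.1 (a * a') b = omega C φ.1 (a * a') b := by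
    intro a ha a' ha' b hb e1 e2
    rw [omega_mul K (hEK ha) (hEK ha') (hEK hb) (hCK (hEc a ha b hb)) (hCK (hEc a' ha' b hb)) θ (hfK a ha)
        (hfK a' ha') (hfK b hb),
      omega_mul C (hEC ha) (hEC ha') (hEC hb) (hEc a ha b hb) (hEc a' ha' b hb) φ (hfC a ha)
        (hfC a' ha') (hfC b hb), e1, e2]
  have hswap : ∀ a ∈ E, ∀ b ∈ E, omega K θ.1 a b = omega C φ.1 a b →
      omega K θ.1 b a = omega C φ.1 b a := by
    intro a _ b _ e1
    rw [omega_swap K θ a b, omega_swap C φ a b, e1]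
  -- extend along the decomposition
  have hext : ∀ b ∈ E, omega K θ.1 x₀ b = omega C φ.1 x₀ b →
      (∀ v ∈ E, v ∈ E₀ → omega K θ.1 v b = omega C φ.1 v b) →
      ∀ a ∈ E, omega K θ.1 a b = omega C φ.1 a b := by
    intro b hb e0 e1 a ha
    obtain ⟨j, u, hu, hu0, rfl⟩ := hgen a ha
    refine hmul _ (E.pow_mem hx₀ j) u hu b hb ?_ (e1 u hu hu0)
    rw [(omega_pow K (hEK hx₀) (hEK hb) (hCK (hEc _ hx₀ b hb)) θ (hfK _ hx₀) (hfK b hb) j).2,
      (omega_pow C (hEC hx₀) (hEC hb) (hEc _ hx₀ b hb) φ (hfC _ hx₀) (hfC b hb) j).2, e0]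
  have h0 : ∀ a ∈ E, omega K θ.1 a x₀ = omega C φ.1 a x₀ :=
    hext x₀ hx₀ (by rw [omega_self K (hEK hx₀) θ (hfK _ hx₀),
      omega_self C (hEC hx₀) φ (hfC _ hx₀)]) fun v hv hv0 => hswap _ hx₀ v hv (h x₀ hx₀ v hv hv0)
  intro a ha b hb
  exact hext b hb (hswap b hb _ hx₀ (h0 b hb))
    (fun v hv hv0 => hswap b hb v hv (h b hb v hv hv0)) a ha

end Bichar

theorem omega_glauberman_aux {p : ℕ} [hp : Fact p.Prime] :
    ∀ (n : ℕ) {G : Type u} [Group G] [Finite G] (K S C E : Subgroup G), Nat.card S = n →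
      IsPGroup p S → ¬ p ∣ Nat.card K → S ≤ Subgroup.normalizer (K : Set G) →
      C = K ⊓ Subgroup.centralizer (S : Set G) → ∀ (hCK : C ≤ K),
      (∀ a ∈ E, ∀ b ∈ E, ⁅a, b⁆ ∈ C) → ¬ p ∣ Nat.card E →
      E ≤ Subgroup.normalizer (K : Set G) → E ≤ Subgroup.normalizer (S : Set G) →
      ∀ (θ : Cfsg.IrrCharacter K), (∀ s ∈ S, Fix K θ.1 s) → (∀ e ∈ E, Fix K θ.1 e) →
      ∀ (φ : Cfsg.IrrCharacter C), ¬ p ∣ resMultLe hCK θ φ →
      ∀ a ∈ E, ∀ b ∈ E, omega K θ.1 a b = omega C φ.1 a b := by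
  intro n
  induction n using Nat.strong_induction_on with
  | _ n ih =>
    intro G _ _ K S C E hn hS hK hSK hC hCK hEc hpE hEK hES θ hθS hθE φ hφ a ha b hb
    classical
    have := Fintype.ofFinite G
    by_cases hS1 : S = ⊥
    · -- no group acts
      have hCK' : C = K := by
        rw [hC, hS1, inf_eq_left]
        intro k _
        rw [Subgroup.mem_centralizer_iff]
        intro s hs
        rw [Subgroup.coe_bot, Set.mem_singleton_iff] at hs
        rw [hs, one_mul, mul_one]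
      subst hCK'
      have hφθ : φ = θ := by
        by_contra hne
        apply hφ
        rw [resMultLe_def, H43.mult_eq_of_classInner (m := 0) ?_]
        · exact dvd_zero p
        · rw [show (fun c : C => θ.1 (Subgroup.inclusion hCK c)) = θ.1 from rfl,
            H26.classInner_irr, if_neg (Ne.symm hne), Nat.cast_zero]
      rw [hφθ]
    -- a minimal invariant elementary central subgroup
    let W : Subgroup G :=
      { carrier := {s | s ∈ S ∧ (∀ t ∈ S, Commute s t) ∧ s ^ p = 1}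
        one_mem' := ⟨S.one_mem, fun t _ => Commute.one_left t, one_pow p⟩
        mul_mem' := fun {s s'} h h' => ⟨S.mul_mem h.1 h'.1,
          fun t ht => (h.2.1 t ht).mul_left (h'.2.1 t ht),
          by rw [(h.2.1 s' h'.1).mul_pow, h.2.2, h'.2.2, one_mul]⟩
        inv_mem' := fun {s} h => ⟨S.inv_mem h.1, fun t ht => (h.2.1 t ht).inv_left,
          by rw [inv_pow, h.2.2, inv_one]⟩ }
    have hW : W ≠ ⊥ := by
      have : Nontrivial S := (Subgroup.nontrivial_iff_ne_bot S).2 hS1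
      have := hS.center_nontrivial
      obtain ⟨z, hz⟩ := exists_ne (1 : Subgroup.center S)
      have hdvd : p ∣ Nat.card (Subgroup.center S) := by
        obtain ⟨i, hi⟩ := (hS.to_subgroup (Subgroup.center S)).exists_card_eq
        rw [hi]
        refine dvd_pow_self p fun h0 => ?_
        rw [h0, pow_zero, Nat.card_eq_one_iff_unique] at hi
        exact hz (hi.1.elim _ _)
      obtain ⟨w, hw⟩ := exists_prime_orderOf_dvd_card' p hdvd
      intro hbot
      have hmem : (((w : Subgroup.center S) : S) : G) ∈ W :=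
        ⟨(w : S).2, fun t ht => congrArg Subtype.val
          (Subgroup.mem_center_iff.1 w.2 ⟨t, ht⟩).symm, by
          rw [← Subgroup.coe_pow, ← Subgroup.coe_pow, ← hw, pow_orderOf_eq_one]; rfl⟩
      rw [hbot, Subgroup.mem_bot] at hmem
      have hw1 : w = 1 := Subtype.ext (Subtype.ext hmem)
      rw [hw1, orderOf_one] at hw
      exact hp.out.one_lt.ne hw
    have hWE : E ≤ Subgroup.normalizer (W : Set G) := by
      have key : ∀ e ∈ E, ∀ w ∈ W, e * w * e⁻¹ ∈ W := by
        rintro e he w ⟨hwS, hwc, hwp⟩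
        refine ⟨conj_mem (hES he) hwS, fun t ht => ?_, by rw [conj_pow, hwp, mul_one, mul_inv_cancel]⟩
        have ht' := conj_mem ((Subgroup.normalizer (S : Set G)).inv_mem (hES he)) ht
        have h := (hwc _ ht').map (MulAut.conj e).toMonoidHom
        simpa [mul_assoc] using h
      intro e he
      rw [Subgroup.mem_normalizer_iff]
      refine fun w => ⟨key e he w, fun h => ?_⟩
      have h2 := key e⁻¹ (E.inv_mem he) _ h
      simpa [mul_assoc] using h2
    obtain ⟨A, ⟨⟨hAW, hA, hEA⟩, hAmin⟩⟩ : ∃ A : Subgroup G,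
        Minimal (fun B : Subgroup G => B ≤ W ∧ B ≠ ⊥ ∧ E ≤ Subgroup.normalizer (B : Set G)) A :=
      (wellFounded_lt (α := Subgroup G)).has_min
        {B : Subgroup G | B ≤ W ∧ B ≠ ⊥ ∧ E ≤ Subgroup.normalizer (B : Set G)}
        ⟨W, le_rfl, hW, hWE⟩ |>.imp fun A hA => ⟨hA.1, fun B hB hBA => by
          by_contra hAB
          exact hA.2 B hB (lt_of_le_not_ge hBA hAB)⟩
    have hAS : A ≤ S := fun z hz => (hAW hz).1
    have hAp : IsPGroup p A := hS.to_le hAS
    have hmin : ∀ B : Subgroup G, B ≤ A → E ≤ Subgroup.normalizer (B : Set G) → B = ⊥ ∨ B = A :=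
      fun B hB hEB => or_iff_not_imp_left.2 fun hne =>
        le_antisymm hB (hAmin ⟨hB.trans hAW, hne, hEB⟩ hB)
    obtain ⟨x₀, hx₀, hgen⟩ := exists_generator_mod_centralizer A E hA
      (fun z hz w hw => (hAW hz).2.1 w (hAS hw))
      (fun z hz w hw => Subgroup.centralizer_le hAS (hC ▸ hEc z hz w hw : ⁅z, w⁆ ∈
        K ⊓ Subgroup.centralizer (S : Set G)).2) hEA hmin
    have hAK : A ≤ Subgroup.normalizer (K : Set G) := hAS.trans hSK
    set K₁ := K ⊓ Subgroup.centralizer (A : Set G) with hK₁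
    have hK₁K : K₁ ≤ K := inf_le_left
    have hθA : ∀ z ∈ A, Fix K θ.1 z := fun z hz => hθS z (hAS hz)
    obtain ⟨θ₁, hθ₁, -⟩ := existsUnique_glau hAp hK hAK hK₁ hK₁K θ hθA
    have hp1 : ∀ e ∈ E, ¬ p ∣ orderOf e := fun e he h => hpE (h.trans (by
      rw [show orderOf e = orderOf (⟨e, he⟩ : E) from Subgroup.orderOf_coe (⟨e, he⟩ : E)]
      exact orderOf_dvd_natCard _))
    have hEK₁ : ∀ e ∈ E, e ∈ Subgroup.normalizer (K₁ : Set G) ∧ Fix K₁ θ₁.1 e := fun e he =>
      fix_glau hAp hK hAK hK₁ hK₁K hθA hθ₁ (hEK he) (hEA he) (hθE e he)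
    have hEcK₁ : ∀ z ∈ E, ∀ w ∈ E, ⁅z, w⁆ ∈ K₁ := fun z hz w hw => by
      have h : ⁅z, w⁆ ∈ K ⊓ Subgroup.centralizer (S : Set G) := hC ▸ hEc z hz w hw
      exact ⟨h.1, Subgroup.centralizer_le hAS h.2⟩
    have hfirst : omega K θ.1 a b = omega K₁ θ₁.1 a b :=
      omega_eq_of_centralizing K K₁ E θ θ₁ hEK (fun e he => (hEK₁ e he).1) hEcK₁ hK₁K hθE
        (fun e he => (hEK₁ e he).2) (Subgroup.centralizer (A : Set G)) hx₀ hgen
        (fun x hx v hv hv0 => omega_step hAp hK hAK hK₁ hK₁K (hEK hx) (hEK hv) (hEA hx) hv0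
          (hEcK₁ x hx v hv) (hp1 v hv) θ hθA (hθE x hx) (hθE v hv) θ₁ hθ₁) a ha b hb
    rw [hfirst]
    -- pass to the quotient by `A`
    have hSA : S ≤ Subgroup.centralizer (A : Set G) := fun s hs =>
      Subgroup.mem_centralizer_iff.2 fun z hz => (hAW hz).2.1 s hs
    set Γ := Subgroup.normalizer (A : Set G) with hΓ
    have hcΓ : Subgroup.centralizer (A : Set G) ≤ Γ := by
      intro z hz
      rw [hΓ, Subgroup.mem_normalizer_iff]
      rw [Subgroup.mem_centralizer_iff] at hz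
      intro w
      constructor
      · intro hw; rwa [← hz w hw, mul_inv_cancel_right]
      · intro hw
        have h := hz _ hw
        have : z * w * z⁻¹ = w := by
          calc z * w * z⁻¹ = z⁻¹ * (z * (z * w * z⁻¹)) := by group
            _ = z⁻¹ * ((z * w * z⁻¹) * z) := by rw [h]
            _ = w := by group
        rwa [this] at hw
    have hK₁Γ : K₁ ≤ Γ := inf_le_right.trans hcΓ
    have hSΓ : S ≤ Γ := hSA.trans hcΓ
    have hCK₁ : C ≤ K₁ := by
      rw [hC]
      refine le_inf inf_le_left (inf_le_right.trans ?_)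
      exact Subgroup.centralizer_le hAS
    have hCΓ : C ≤ Γ := hCK₁.trans hK₁Γ
    haveI : (A.subgroupOf Γ).Normal :=
      (Subgroup.normal_subgroupOf_iff_le_normalizer Subgroup.le_normalizer).2 le_rfl
    set q := QuotientGroup.mk' (A.subgroupOf Γ) with hq
    have hinj : ∀ k : Γ, (k : G) ∈ K → q k = 1 → k = 1 := by
      intro k hkK hk
      have hkA : (k : G) ∈ A := (QuotientGroup.eq_one_iff k).1 hk
      have h1 : orderOf (k : G) ∣ Nat.card K := by
        rw [show orderOf (k : G) = orderOf (⟨(k : G), hkK⟩ : K) from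
          Subgroup.orderOf_coe (⟨(k : G), hkK⟩ : K)]
        exact orderOf_dvd_natCard _
      obtain ⟨i, hi⟩ := hAp.exists_card_eq
      have h2 : orderOf (k : G) ∣ p ^ i := by
        rw [← hi, show orderOf (k : G) = orderOf (⟨(k : G), hkA⟩ : A) from
          Subgroup.orderOf_coe (⟨(k : G), hkA⟩ : A)]
        exact orderOf_dvd_natCard _
      have h3 : orderOf (k : G) = 1 :=
        Nat.dvd_one.1 ((((Nat.Prime.coprime_iff_not_dvd hp.out).2 hK).pow_left i) ▸
          Nat.dvd_gcd h2 h1)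
      exact Subtype.ext (orderOf_eq_one_iff.1 h3)
    set Kq := (K₁.subgroupOf Γ).map q with hKq
    set Cq := (C.subgroupOf Γ).map q with hCq
    set Sq := (S.subgroupOf Γ).map q with hSq
    set Eq' := (E.subgroupOf Γ).map q with hEq
    have hbij : ∀ (L : Subgroup G) (hL : L ≤ Γ) (_ : L ≤ K),
        ∃ e : L ≃* ↥((L.subgroupOf Γ).map q),
          ∀ l : L, (e l : Γ ⧸ A.subgroupOf Γ) = q ⟨l, hL l.2⟩ := by
      intro L hL hLK
      let f : L →* ↥((L.subgroupOf Γ).map q) :=
        { toFun := fun l => ⟨q ⟨l, hL l.2⟩, ⟨⟨l, hL l.2⟩, l.2, rfl⟩⟩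
          map_one' := Subtype.ext (map_one q)
          map_mul' := fun z w => Subtype.ext (map_mul q ⟨z, hL z.2⟩ ⟨w, hL w.2⟩) }
      refine ⟨MulEquiv.ofBijective f ⟨(injective_iff_map_eq_one f).2 fun l hl => ?_,
        fun ⟨z, g, hg, hgz⟩ => ⟨⟨g, hg⟩, Subtype.ext hgz⟩⟩, fun l => rfl⟩
      have h := hinj ⟨l, hL l.2⟩ (hLK l.2) (congrArg Subtype.val hl)
      exact Subtype.ext (congrArg (fun z : Γ => (z : G)) h)
    obtain ⟨eK, heK⟩ := hbij K₁ hK₁Γ hK₁K
    obtain ⟨eC, heC⟩ := hbij C hCΓ hCK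
    set θq := H43.irrCongr eK.symm θ₁ with hθq
    set φq := H43.irrCongr eC.symm φ with hφq
    have hnorm : ∀ (L M : Subgroup G), L ≤ Γ → (∀ z ∈ L, z ∈ Subgroup.normalizer (M : Set G)) →
        (L.subgroupOf Γ).map q ≤ Subgroup.normalizer (((M.subgroupOf Γ).map q : Subgroup _) :
          Set (Γ ⧸ A.subgroupOf Γ)) := by
      rintro L M hL hM _ ⟨z, hz, rfl⟩
      refine Subgroup.le_normalizer_map q ⟨z, ?_, rfl⟩
      rw [SetLike.mem_coe, Subgroup.mem_normalizer_iff]
      intro w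
      simp only [Subgroup.mem_subgroupOf, Subgroup.coe_mul, Subgroup.coe_inv]
      exact Subgroup.mem_normalizer_iff.1 (hM _ hz) w
    have hfixq : ∀ z : Γ, (z : G) ∈ Subgroup.normalizer (K₁ : Set G) → Fix K₁ θ₁.1 (z : G) →
        Fix Kq θq.1 (q z) := by
      intro z hzn hfz k l hkl
      obtain ⟨k, rfl⟩ := eK.surjective k
      obtain ⟨l, rfl⟩ := eK.surjective l
      rw [hθq, H43.irrCongr_apply, H43.irrCongr_apply, eK.symm_apply_apply, eK.symm_apply_apply]
      refine hfz k l ?_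
      have hl : l = ⟨(z : G) * k * (z : G)⁻¹, conj_mem hzn k.2⟩ := by
        apply eK.injective
        apply Subtype.ext
        rw [hkl, heK, heK, ← map_inv, ← map_mul, ← map_mul]
        congr 1
      exact congrArg Subtype.val hl
    have hSn : ∀ z ∈ S, z ∈ Subgroup.normalizer (K₁ : Set G) ∧ Fix K₁ θ₁.1 z := fun z hz =>
      fix_glau hAp hK hAK hK₁ hK₁K hθA hθ₁ (hSK hz) (hSΓ hz) (hθS z hz)
    have hEΓ : E ≤ Γ := hEA
    have hCeq : Cq = Kq ⊓ Subgroup.centralizer (Sq : Set (Γ ⧸ A.subgroupOf Γ)) := by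
      refine le_antisymm (le_inf (Subgroup.map_mono fun z hz => hCK₁ hz) ?_) ?_
      · rintro _ ⟨c, hc, rfl⟩
        rw [Subgroup.mem_centralizer_iff]
        rintro _ ⟨s, hs, rfl⟩
        rw [← map_mul, ← map_mul]
        congr 1
        apply Subtype.ext
        have hcS : (c : G) ∈ K ⊓ Subgroup.centralizer (S : Set G) := hC ▸ hc
        exact Subgroup.mem_centralizer_iff.1 hcS.2 s hs
      · rintro _ ⟨⟨k, hk, rfl⟩, hkc⟩
        refine ⟨k, ?_, rfl⟩
        show (k : G) ∈ C
        rw [hC]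
        refine ⟨hK₁K hk, Subgroup.mem_centralizer_iff.2 fun s hs => ?_⟩
        have h := Subgroup.mem_centralizer_iff.1 hkc _ ⟨⟨s, hSΓ hs⟩, hs, rfl⟩
        set sΓ : Γ := ⟨s, hSΓ hs⟩
        have hw : sΓ * k * sΓ⁻¹ * k⁻¹ = 1 := by
          refine hinj _ ?_ ?_
          · exact K.mul_mem (conj_mem (hSK hs) (hK₁K hk)) (K.inv_mem (hK₁K hk))
          · rw [map_mul, map_mul, map_mul, map_inv, map_inv, h, mul_inv_cancel_right,
              mul_inv_cancel]
        have h2 : sΓ * k = k * sΓ := mul_inv_eq_iff_eq_mul.1 (mul_inv_eq_one.1 hw)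
        exact congrArg Subtype.val h2
    have hCqKq : Cq ≤ Kq := hCeq ▸ inf_le_left
    have hφq' : ¬ p ∣ resMultLe hCqKq θq φq := by
      rw [resMultLe_def]
      have h1 : H43.mult (fun c => θq.1 (Subgroup.inclusion hCqKq c)) φq =
          resMultLe hCK₁ θ₁ φ := by
        rw [resMultLe_def]
        have h := H45.mult_congr eC.symm (fun c : C => θ₁.1 (Subgroup.inclusion hCK₁ c)) φ
        rw [← h, ← hφq]
        congr 1
        funext c
        rw [hθq, H43.irrCongr_apply]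
        refine congrArg θ₁.1 ?_
        apply eK.injective
        rw [MulEquiv.apply_symm_apply]
        apply Subtype.ext
        rw [heK]
        show (c : Γ ⧸ A.subgroupOf Γ) = q ⟨(eC.symm c : G), _⟩
        rw [← heC, MulEquiv.apply_symm_apply]
      rw [h1]
      intro hdvd
      apply hφ
      rw [resMultLe_def, show (fun c : C => θ.1 (Subgroup.inclusion hCK c)) = fun c : C =>
        (fun z : K₁ => θ.1 (Subgroup.inclusion hK₁K z)) (Subgroup.inclusion hCK₁ c) from rfl]
      rw [H43.mult_comp (Subgroup.inclusion hCK₁) (φ := fun z : K₁ =>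
        θ.1 (Subgroup.inclusion hK₁K z))
        (H26.isCharacter_comp (H26.irr_isCharacter θ) (Subgroup.inclusion hK₁K)) φ]
      refine Finset.dvd_sum fun η _ => ?_
      by_cases hη : η = θ₁
      · subst hη
        rw [resMultLe_def] at hdvd
        exact hdvd.mul_left _
      · obtain ⟨η₀, -, huniq⟩ := existsUnique_glau hAp hK hAK hK₁ hK₁K θ hθA
        by_contra hnd
        refine hη ((huniq η ?_).trans (huniq θ₁ hθ₁).symm)
        show ¬ p ∣ resMultLe hK₁K θ η
        rw [resMultLe_def]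
        exact fun h => hnd (h.mul_right _)
    have hlt : Nat.card Sq < n := by
      rw [← hn]
      have hle : Nat.card Sq ≤ Nat.card S := by
        rw [← Nat.card_congr (Subgroup.subgroupOfEquivOfLe hSΓ).toEquiv]
        exact Nat.card_le_card_of_surjective
          (fun z : S.subgroupOf Γ => (⟨q z, ⟨z, z.2, rfl⟩⟩ : Sq))
          fun ⟨w, z, hz, hzw⟩ => ⟨⟨z, hz⟩, Subtype.ext hzw⟩
      refine lt_of_le_of_ne hle fun heq => hA ?_
      have hbij' : Function.Injective
          (fun z : S.subgroupOf Γ => (⟨q z, ⟨z, z.2, rfl⟩⟩ : Sq)) := by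
        refine (Nat.bijective_iff_surjective_and_card _).2 ⟨fun ⟨w, z, hz, hzw⟩ =>
          ⟨⟨z, hz⟩, Subtype.ext hzw⟩, ?_⟩ |>.1
        rw [heq, Nat.card_congr (Subgroup.subgroupOfEquivOfLe hSΓ).toEquiv]
      rw [eq_bot_iff]
      intro z hz
      have h1 : (⟨⟨z, hSΓ (hAS hz)⟩, hAS hz⟩ : S.subgroupOf Γ) = 1 := by
        refine hbij' (Subtype.ext ?_)
        show q ⟨z, hSΓ (hAS hz)⟩ = q 1
        rw [map_one]
        exact (QuotientGroup.eq_one_iff _).2 hz
      rw [Subgroup.mem_bot]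
      exact congrArg (fun w : S.subgroupOf Γ => ((w : Γ) : G)) h1
    have hsub : ∀ L : Subgroup G, L ≤ Γ → Nat.card ↥((L.subgroupOf Γ).map q) ∣ Nat.card L := by
      intro L hL
      rw [← Nat.card_congr (Subgroup.subgroupOfEquivOfLe hL).toEquiv]
      exact Subgroup.card_map_dvd _ q
    have hEcq : ∀ z ∈ Eq', ∀ w ∈ Eq', ⁅z, w⁆ ∈ Cq := by
      rintro _ ⟨z, hz, rfl⟩ _ ⟨w, hw, rfl⟩
      exact ⟨⁅z, w⁆, hEc _ hz _ hw, map_commutatorElement q z w⟩
    have hSqP : IsPGroup p Sq := by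
      have : IsPGroup p (S.subgroupOf Γ) := hS.comap_subtype
      exact this.map q
    have key := ih (Nat.card Sq) hlt Kq Sq Cq Eq' rfl hSqP
      (fun h => hK ((h.trans (hsub K₁ hK₁Γ)).trans (Subgroup.card_dvd_of_le hK₁K)))
      (hnorm S K₁ hSΓ fun z hz => (hSn z hz).1) hCeq hCqKq hEcq
      (fun h => hpE (h.trans (hsub E hEΓ)))
      (hnorm E K₁ hEΓ fun z hz => (hEK₁ z hz).1) (hnorm E S hEΓ fun z hz => hES hz) θq
      (by rintro _ ⟨z, hz, rfl⟩; exact hfixq z (hSn _ hz).1 (hSn _ hz).2)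
      (by rintro _ ⟨z, hz, rfl⟩; exact hfixq z (hEK₁ _ hz).1 (hEK₁ _ hz).2)
      φq hφq' (q ⟨a, hEΓ ha⟩) ⟨_, ha, rfl⟩ (q ⟨b, hEΓ hb⟩) ⟨_, hb, rfl⟩
    -- transport back
    have htrans : ∀ (L : Subgroup G) (hL : L ≤ Γ)
        (e : L ≃* ↥((L.subgroupOf Γ).map q))
        (_ : ∀ l : L, (e l : Γ ⧸ A.subgroupOf Γ) = q ⟨l, hL l.2⟩) (η : Cfsg.IrrCharacter L),
        E ≤ Subgroup.normalizer (L : Set G) → ⁅a, b⁆ ∈ L →
        omega ((L.subgroupOf Γ).map q) (H43.irrCongr e.symm η).1 (q ⟨a, hEΓ ha⟩)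
          (q ⟨b, hEΓ hb⟩) = omega L η.1 a b := by
      intro L hL e he η hEL hLab
      let eΓ := Subgroup.subgroupOfEquivOfLe hL
      have hn' : ∀ z : Γ, (z : G) ∈ E →
          z ∈ Subgroup.normalizer ((L.subgroupOf Γ : Subgroup Γ) : Set Γ) := by
        intro z hz
        rw [Subgroup.mem_normalizer_iff]
        intro w
        simp only [Subgroup.mem_subgroupOf, Subgroup.coe_mul, Subgroup.coe_inv]
        exact Subgroup.mem_normalizer_iff.1 (hEL hz) w
      have hcab : ⁅(⟨a, hEΓ ha⟩ : Γ), (⟨b, hEΓ hb⟩ : Γ)⁆ ∈ L.subgroupOf Γ := hLab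
      have h1 := omega_map Γ.subtype (L.subgroupOf Γ) L eΓ (fun k => rfl)
        (fun k => η.1 (eΓ k)) η.1 (fun k => rfl) (hn' _ ha) (hn' _ hb) hcab
      have h2 := omega_map q (L.subgroupOf Γ) ((L.subgroupOf Γ).map q) (eΓ.trans e)
        (fun k => he (eΓ k)) (fun k => η.1 (eΓ k)) (H43.irrCongr e.symm η).1
        (fun k => by rw [H43.irrCongr_apply, MulEquiv.trans_apply, MulEquiv.symm_apply_apply])
        (hn' _ ha) (hn' _ hb) hcab
      rw [h2, ← h1]
      rfl
    rw [← htrans K₁ hK₁Γ eK heK θ₁ (fun e he => (hEK₁ e he).1) (hEcK₁ a ha b hb)]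
    refine key.trans ?_
    exact htrans C hCΓ eC heC φ (fun e he =>
      (fix_glau hS hK hSK hC hCK hθS hφ (hEK he) (hES he) (hθE e he)).1) (hEc a ha b hb)

/-- The commutator sum is invariant under the Glauberman correspondence. -/
theorem omega_glauberman {p : ℕ} [Fact p.Prime] {G : Type u} [Group G] [Finite G]
    {K S C : Subgroup G} (E : Subgroup G) (hS : IsPGroup p S) (hK : ¬ p ∣ Nat.card K)
    (hSK : S ≤ Subgroup.normalizer (K : Set G))
    (hC : C = K ⊓ Subgroup.centralizer (S : Set G)) (hCK : C ≤ K)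
    (hEc : ∀ a ∈ E, ∀ b ∈ E, ⁅a, b⁆ ∈ C) (hpE : ¬ p ∣ Nat.card E)
    (hEK : E ≤ Subgroup.normalizer (K : Set G)) (hES : E ≤ Subgroup.normalizer (S : Set G))
    (θ : Cfsg.IrrCharacter K) (hθS : ∀ s ∈ S, Fix K θ.1 s) (hθE : ∀ e ∈ E, Fix K θ.1 e)
    (φ : Cfsg.IrrCharacter C) (hφ : ¬ p ∣ resMultLe hCK θ φ) {a b : G} (ha : a ∈ E) (hb : b ∈ E) :
    omega K θ.1 a b = omega C φ.1 a b :=
  omega_glauberman_aux (Nat.card S) K S C E rfl hS hK hSK hC hCK hEc hpE hEK hES θ hθS hθE φ hφ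
    a ha b hb

end Cfsg.Agent.H63.McKay
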