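import Cfsg.Agent.H63.McKay.Count
import Cfsg.Agent.H63.McKay.Induction
import Cfsg.Agent.H63.McKay.Ext
import Cfsg.Agent.S0887

/-!
# The central case: a normal subgroup `K S` with `K` of order prime to `p` and `S` Sylow

The number of irreducible characters of degree prime to `p` with a given central character is
the same for `G` and for the normaliser of `S`.
-/

set_option autoImplicit false

open scoped ComplexConjugate commutatorElement

namespace Cfsg.Agent.H63.McKay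

universe u

variable {G : Type u} [Group G]

/-- Degree prime to `p` and a given scalar on the elements of `Z`. -/
def Good (p : ℕ) (Z : Subgroup G) (lam : G → ℂ) (M : Subgroup G) (ψ : M → ℂ) : Prop :=
  ¬ p ∣ Cfsg.charDegree ψ ∧ ∀ z : M, (z : G) ∈ Z → ψ z = lam z * ψ 1

theorem exists_scalar [Fintype G] (χ : Cfsg.IrrCharacter G) {z : G}
    (hz : z ∈ Subgroup.center G) : ∃ a : ℂ, χ.1 z = a * χ.1 1 := by
  obtain ⟨c, hc⟩ := exists_centralHom χ
  refine ⟨(c ⟨z, hz⟩ : ℂ), ?_⟩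
  have h := (hc ⟨z, hz⟩).1 1
  rwa [one_mul] at h

/-- The counting formula for the central case. -/
theorem card_good_mul_card [Fintype G] {p : ℕ} [hp : Fact p.Prime] (M : Subgroup G) [M.Normal]
    [Fintype M] (H : Subgroup G) [Fintype H]
    [∀ a b : H, Decidable (⁅(a : G), (b : G)⁆ ∈ M)] (hH : H ⊔ M = ⊤) (hidx : ¬ p ∣ M.index)
    (Z : Subgroup G) (hZc : Z ≤ Subgroup.center G) (hZM : Z ≤ M) (lam : G → ℂ)
    (X : Finset (Cfsg.IrrCharacter M)) (hX : ∀ ψ, ψ ∈ X ↔ Good p Z lam M ψ.1) :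
    (Nat.card {χ : Cfsg.IrrCharacter G //
        ¬ p ∣ Cfsg.charDegree χ.1 ∧ ∀ z ∈ Z, χ.1 z = lam z * χ.1 1} : ℂ) *
        ((Nat.card H : ℂ) * (Nat.card (H ⊓ M : Subgroup G) : ℂ)) =
      ∑ g : H, ∑ h : H,
        if ⁅(g : G), (h : G)⁆ ∈ M then ∑ ψ ∈ X, omega M ψ.1 (g : G) (h : G) else 0 := by
  classical
  have hst : ∀ g : G, ∀ ψ ∈ X, H43.irrConj M g ψ ∈ X := by
    intro g ψ hψ
    rw [hX] at hψ ⊢
    refine ⟨by rw [H43.irrConj, H43.charDegree_irrCongr]; exact hψ.1, fun z hz => ?_⟩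
    rw [H43.irrConj_apply, H43.irrConj_apply, map_one]
    have he : MulAut.conjNormal g z = z := Subtype.ext (by
      rw [MulAut.conjNormal_apply, Subgroup.mem_center_iff.1 (hZc hz) g, mul_inv_cancel_right])
    rw [he]
    exact hψ.2 z hz
  rw [← card_over_mul_card M H hH X hst]
  congr 2
  refine Nat.card_congr (Equiv.subtypeEquivRight fun χ => ?_)
  have key : ∀ ψ, H43.restrMult M χ ψ ≠ 0 →
      ((¬ p ∣ Cfsg.charDegree χ.1 ∧ ∀ z ∈ Z, χ.1 z = lam z * χ.1 1) ↔ Good p Z lam M ψ.1) := by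
    intro ψ hψ
    have hdeg : ¬ p ∣ Cfsg.charDegree χ.1 ↔ ¬ p ∣ Cfsg.charDegree ψ.1 := by
      have hcon : Cfsg.classInner (fun n : M => χ.1 n) ψ.1 ≠ 0 := by
        rw [H43.classInner_eq_mult (H43.isCharacter_restr M χ), Nat.cast_ne_zero]
        exact hψ
      obtain ⟨hdvd, hq⟩ := S0887.result M χ.1 χ.2 ψ.1 ψ.2 hcon (Cfsg.charDegree χ.1)
        (Cfsg.charDegree ψ.1) (H43.irr_charDegree_spec χ) (H43.irr_charDegree_spec ψ)
      refine ⟨fun h h' => h (h'.trans hdvd), fun h h' => ?_⟩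
      rw [← Nat.div_mul_cancel hdvd] at h'
      rcases hp.out.dvd_mul.1 h' with h'' | h''
      · exact hidx (h''.trans hq)
      · exact h h''
    refine and_congr hdeg ⟨fun h z hz => ?_, fun h z hz => ?_⟩
    · have hzc : z ∈ Subgroup.center M := Subgroup.mem_center_iff.2 fun y =>
        Subtype.ext (Subgroup.mem_center_iff.1 (hZc hz) (y : G))
      obtain ⟨b, hb⟩ := exists_scalar ψ hzc
      rw [hb, ← central_scalar_of_mult M.subtype χ ψ hψ hzc (hZc hz) (lam z) b (h z hz) hb]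
    · have hzc : (⟨z, hZM hz⟩ : M) ∈ Subgroup.center M := Subgroup.mem_center_iff.2 fun y =>
        Subtype.ext (Subgroup.mem_center_iff.1 (hZc hz) (y : G))
      obtain ⟨a, ha⟩ := exists_scalar χ (hZc hz)
      rw [ha, central_scalar_of_mult M.subtype χ ψ hψ hzc (hZc hz) a (lam z) ha
        (h ⟨z, hZM hz⟩ hz)]
  constructor
  · intro h
    obtain ⟨ψ, hψ⟩ := H43.exists_restrMult_ne_zero M χ
    exact ⟨ψ, (hX ψ).2 ((key ψ hψ).1 h), hψ⟩
  · rintro ⟨ψ, hψX, hψ⟩
    exact (key ψ hψ).2 ((hX ψ).1 hψX)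

theorem mem_of_pow_eq_one [Finite G] {K M : Subgroup G} [K.Normal] (hKM : K ≤ M) {w : G}
    (hw : w ∈ M) {n : ℕ} (hwn : w ^ n = 1) (hc : n.Coprime (K.relIndex M)) : w ∈ K := by
  have h := eq_one_of_pows (a := QuotientGroup.mk' (K.subgroupOf M) (⟨w, hw⟩ : M))
    (d := n) (n := K.relIndex M)
    (by rw [← map_pow, show (⟨w, hw⟩ : M) ^ n = 1 from Subtype.ext hwn, map_one])
    pow_card_eq_one' hc
  exact (QuotientGroup.eq_one_iff (⟨w, hw⟩ : M)).1 h

variable {p : ℕ} [hp : Fact p.Prime]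

/-- The count for `G` equals the count for the normaliser of `S`. -/
theorem count_final [Fintype G] (K : Subgroup G) [K.Normal] (hK : ¬ p ∣ Nat.card K)
    (S : Sylow p G) (hM : (K ⊔ (S : Subgroup G)).Normal) (Z : Subgroup G)
    (hZc : Z ≤ Subgroup.center G) (hZM : Z ≤ K ⊔ (S : Subgroup G)) (lam : G → ℂ) :
    Nat.card {χ : Cfsg.IrrCharacter G //
        ¬ p ∣ Cfsg.charDegree χ.1 ∧ ∀ z ∈ Z, χ.1 z = lam z * χ.1 1} =
      Nat.card {χ : Cfsg.IrrCharacter (Subgroup.normalizer ((S : Subgroup G) : Set G)) //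
        ¬ p ∣ Cfsg.charDegree χ.1 ∧
          ∀ z : Subgroup.normalizer ((S : Subgroup G) : Set G), (z : G) ∈ Z →
            χ.1 z = lam z * χ.1 1} := by
  classical
  set S₀ : Subgroup G := (S : Subgroup G) with hS₀
  set M : Subgroup G := K ⊔ S₀ with hMdef
  set N : Subgroup G := Subgroup.normalizer (S₀ : Set G) with hN
  haveI := hM
  haveI : Fintype K := Fintype.ofFinite _
  haveI : Fintype M := Fintype.ofFinite _
  haveI : Fintype S₀ := Fintype.ofFinite _
  haveI : Fintype N := Fintype.ofFinite _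
  set C : Subgroup G := K ⊓ Subgroup.centralizer (S₀ : Set G) with hC
  haveI : Fintype C := Fintype.ofFinite _
  have hCK : C ≤ K := inf_le_left
  have hKM : K ≤ M := le_sup_left
  have hSM : S₀ ≤ M := le_sup_right
  have hSN : S₀ ≤ N := Subgroup.le_normalizer
  have hCN : C ≤ N := fun c hc => Subgroup.centralizer_le_normalizer _ hc.2
  have hS : IsPGroup p S₀ := S.isPGroup'
  have hcopKS : (Nat.card K).Coprime (Nat.card S₀) := by
    obtain ⟨m, hm⟩ := IsPGroup.iff_card.1 hS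
    rw [hm]
    exact ((hp.out.coprime_iff_not_dvd.2 hK).symm).pow_right m
  have hKS : K ⊓ S₀ = ⊥ := (Subgroup.disjoint_of_coprime_natCard hcopKS).eq_bot
  have hrel : K.relIndex M = Nat.card S₀ := by
    rw [hMdef, sup_comm, Subgroup.relIndex_sup_right, ← Subgroup.inf_relIndex_right, hKS,
      Subgroup.relIndex_bot_left]
  have hidx : ¬ p ∣ M.index := fun h =>
    S.not_dvd_index (h.trans (Subgroup.index_dvd_of_le hSM))
  have hcardM : Nat.card M = Nat.card K * Nat.card S₀ := by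
    rw [← hrel, ← (K.subgroupOf M).card_mul_index,
      Nat.card_congr (Subgroup.subgroupOfEquivOfLe hKM).toEquiv]
    rfl
  have hmemK : ∀ w ∈ M, ¬ p ∣ orderOf w → w ∈ K := fun w hw hwp => by
    refine mem_of_pow_eq_one hKM hw (pow_orderOf_eq_one w) ?_
    rw [hrel]
    obtain ⟨m, hm⟩ := IsPGroup.iff_card.1 hS
    rw [hm]
    exact ((hp.out.coprime_iff_not_dvd.2 hwp).symm).pow_right m
  have hKN : ∀ k ∈ K, k ∈ N → k ∈ C := fun k hk hkN =>
    ⟨hk, Subgroup.mem_centralizer_iff.2 fun s hs => by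
      have h1 : k * s * k⁻¹ * s⁻¹ ∈ K ⊓ S₀ :=
        ⟨by rw [show k * s * k⁻¹ * s⁻¹ = k * (s * k⁻¹ * s⁻¹) by group]
            exact K.mul_mem hk (‹K.Normal›.conj_mem _ (K.inv_mem hk) s),
          S₀.mul_mem (conj_mem hkN hs) (S₀.inv_mem hs)⟩
      rw [hKS, Subgroup.mem_bot, mul_inv_eq_one, mul_inv_eq_iff_eq_mul] at h1
      exact h1.symm⟩
  -- complement of `S` in `N`
  haveI : (S₀.subgroupOf N).Normal := Subgroup.normal_in_normalizer
  have hcopSN : (Nat.card (S₀.subgroupOf N)).Coprime (S₀.subgroupOf N).index := by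
    rw [Nat.card_congr (Subgroup.subgroupOfEquivOfLe hSN).toEquiv]
    obtain ⟨m, hm⟩ := IsPGroup.iff_card.1 hS
    rw [hm]
    refine (hp.out.coprime_iff_not_dvd.2 fun h => S.not_dvd_index ?_).pow_left m
    exact h.trans (Subgroup.relIndex_dvd_index_of_le hSN)
  obtain ⟨HN, hHN⟩ := Subgroup.exists_left_complement'_of_coprime hcopSN
  set H : Subgroup G := HN.map N.subtype with hHdef
  haveI : Fintype H := Fintype.ofFinite _
  haveI : Fintype HN := Fintype.ofFinite _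
  have hHN' : H ≤ N := Subgroup.map_subtype_le HN
  have hpH : ¬ p ∣ Nat.card H := by
    rw [hHdef, Nat.card_congr (HN.equivMapOfInjective _ N.subtype_injective).toEquiv.symm,
      ← hHN.index_eq_card]
    exact fun h => S.not_dvd_index (h.trans (Subgroup.relIndex_dvd_index_of_le hSN))
  have hpord : ∀ w ∈ H, ¬ p ∣ orderOf w := fun w hw h =>
    hpH (h.trans (Subgroup.orderOf_dvd_natCard H hw))
  have hHM : ∀ w ∈ H, w ∈ M → w ∈ C := fun w hw hwM =>
    hKN w (hmemK w hwM (hpord w hw)) (hHN' hw)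
  have hNM : N ⊔ M = ⊤ := Sylow.normalizer_sup_eq_top' S hSM
  have hHgen : H ⊔ M = ⊤ := by
    rw [eq_top_iff, ← hNM]
    refine sup_le (fun n hn => ?_) le_sup_right
    have h : (⟨n, hn⟩ : N) ∈ ((HN ⊔ S₀.subgroupOf N : Subgroup N) : Set N) := by
      rw [hHN.sup_eq_top]; trivial
    rw [Subgroup.mul_normal] at h
    obtain ⟨a, ha, b, hb, e⟩ := h
    rw [← show (a : G) * (b : G) = n from congrArg Subtype.val e]
    exact Subgroup.mul_mem_sup (Subgroup.mem_map_of_mem _ ha) (hSM hb)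
  -- the normalised side
  set MN : Subgroup N := M.subgroupOf N with hMN
  haveI : Fintype MN := Fintype.ofFinite _
  let jS : S₀ →* M := Subgroup.inclusion hSM
  let jK : K →* M := Subgroup.inclusion hKM
  let jS' : S₀ →* MN := (Subgroup.inclusion hSN).codRestrict MN fun s => hSM s.2
  let jC : C →* MN := (Subgroup.inclusion hCN).codRestrict MN fun c => hKM (hCK c.2)
  have hjS'v : ∀ s, (((jS' s : MN) : N) : G) = s := fun s => rfl
  have hjCv : ∀ c, (((jC c : MN) : N) : G) = c := fun c => rfl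
  have hjK0 : Function.Injective jK := Subgroup.inclusion_injective hKM
  have hjS0 : Function.Injective jS := Subgroup.inclusion_injective hSM
  have hjC0 : Function.Injective jC := fun a b h => Subtype.ext (by
    rw [← hjCv a, ← hjCv b, h])
  have hjS'0 : Function.Injective jS' := fun a b h => Subtype.ext (by
    rw [← hjS'v a, ← hjS'v b, h])
  have hmemC : ∀ (g : G), g ∈ N → ∀ c ∈ C, g * c * g⁻¹ ∈ C := fun g hg c hc =>
    hKN _ (‹K.Normal›.conj_mem c hc.1 g)
      (N.mul_mem (N.mul_mem hg (hCN hc)) (N.inv_mem hg))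
  have hnK : jK.range.Normal := by
    rw [Subgroup.inclusion_range]; infer_instance
  have hnC : jC.range.Normal := ⟨by
    rintro _ ⟨c, rfl⟩ x
    refine ⟨⟨_, hmemC (x : N).1 (x : N).2 c c.2⟩, ?_⟩
    exact Subtype.ext (Subtype.ext rfl)⟩
  have hgenK : jK.range ⊔ jS.range = ⊤ := by
    rw [Subgroup.inclusion_range, Subgroup.inclusion_range, ← Subgroup.subgroupOf_sup hKM hSM]
    exact Subgroup.subgroupOf_self _
  have hgenC : jC.range ⊔ jS'.range = ⊤ := by
    rw [eq_top_iff]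
    rintro x -
    have hx : ((x : N) : G) ∈ ((K ⊔ S₀ : Subgroup G) : Set G) := x.2
    rw [Subgroup.normal_mul] at hx
    obtain ⟨k, hk, s, hs, e⟩ := hx
    have hk' : k ∈ C := hKN k hk (by
      rw [show k = ((x : N) : G) * s⁻¹ from eq_mul_inv_of_mul_eq e]
      exact N.mul_mem (x : N).2 (N.inv_mem (hSN hs)))
    rw [show x = jC ⟨k, hk'⟩ * jS' ⟨s, hs⟩ from Subtype.ext (Subtype.ext e.symm)]
    exact Subgroup.mul_mem_sup ⟨_, rfl⟩ ⟨_, rfl⟩
  have hpC : ¬ p ∣ Nat.card C := fun h => hK (h.trans (Subgroup.card_dvd_of_le hCK))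
  have hcopM : ∀ ψ : Cfsg.IrrCharacter M, ¬ p ∣ Cfsg.charDegree ψ.1 →
      (Cfsg.charDegree ψ.1).Coprime jK.range.index := by
    intro ψ hψ
    have h : jK.range.index = Nat.card S₀ := by
      rw [Subgroup.inclusion_range]; exact hrel
    obtain ⟨m, hm⟩ := IsPGroup.iff_card.1 hS
    rw [h, hm]
    exact ((hp.out.coprime_iff_not_dvd.2 hψ).symm).pow_right m
  have hcopMN : ∀ ψ : Cfsg.IrrCharacter MN, ¬ p ∣ Cfsg.charDegree ψ.1 →
      (Cfsg.charDegree ψ.1).Coprime jC.range.index := by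
    intro ψ hψ
    haveI := hnC
    have h : jC.range.index ∣ Nat.card S₀ := by
      rw [← Subgroup.relIndex_top_right, ← hgenC, sup_comm, Subgroup.relIndex_sup_right,
        Nat.card_congr (MonoidHom.ofInjective hjS'0).toEquiv]
      exact Subgroup.relIndex_dvd_card _ _
    obtain ⟨m, hm⟩ := IsPGroup.iff_card.1 hS
    refine Nat.Coprime.coprime_dvd_right h ?_
    rw [hm]
    exact ((hp.out.coprime_iff_not_dvd.2 hψ).symm).pow_right m
  have hdegK : ∀ θ : Cfsg.IrrCharacter K, ¬ p ∣ Cfsg.charDegree θ.1 := fun θ h =>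
    hK (h.trans (H43.irr_charDegree_dvd θ))
  have hdegC : ∀ θ : Cfsg.IrrCharacter C, ¬ p ∣ Cfsg.charDegree θ.1 := fun θ h =>
    hpC (h.trans (H43.irr_charDegree_dvd θ))
  have hcopd : ∀ {d : ℕ}, ¬ p ∣ d → d.Coprime (Nat.card S₀) := fun {d} hd => by
    obtain ⟨m, hm⟩ := IsPGroup.iff_card.1 hS
    rw [hm]
    exact ((hp.out.coprime_iff_not_dvd.2 hd).symm).pow_right m
  -- invariance of restrictions
  have hfixK : ∀ (ψ : Cfsg.IrrCharacter M) (θ : Cfsg.IrrCharacter K),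
      (∀ k, ψ.1 (jK k) = θ.1 k) → ∀ s ∈ S₀, Fix K θ.1 s := by
    intro ψ θ hθ s hs k l hkl
    rw [← hθ, ← hθ]
    rw [show jK l = (⟨s, hSM hs⟩ : M) * jK k * (⟨s, hSM hs⟩ : M)⁻¹ from Subtype.ext hkl,
      H26.irr_conj]
  have hfixC : ∀ φ : Cfsg.IrrCharacter C, ∀ (s : S₀) (k k' : C),
      jC k' = jS' s * jC k * (jS' s)⁻¹ → φ.1 k' = φ.1 k := by
    intro φ s k k' h
    have h' := congrArg (fun x : MN => ((x : N) : G)) h
    have hk := Subgroup.mem_centralizer_iff.1 k.2.2 s s.2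
    simp only [Subgroup.coe_mul, Subgroup.coe_inv, hjCv, hjS'v, hk, mul_inv_cancel_right] at h'
    rw [Subtype.ext h']
  have hSK : S₀ ≤ Subgroup.normalizer (K : Set G) := Subgroup.le_normalizer_of_normal
  -- the correspondence
  let Rel : Cfsg.IrrCharacter M → Cfsg.IrrCharacter MN → Prop := fun ψ ψ' =>
    ∃ (θ : Cfsg.IrrCharacter K) (φ : Cfsg.IrrCharacter C) (μ : S₀ →* ℂˣ),
      (∀ k, ψ.1 (jK k) = θ.1 k) ∧ (∀ c, ψ'.1 (jC c) = φ.1 c) ∧ ¬ p ∣ resMultLe hCK θ φ ∧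
        (∀ s, Cfsg.detChar ψ.1 (jS s) = (μ s : ℂ) ^ Cfsg.charDegree ψ.1) ∧
        (∀ s, Cfsg.detChar ψ'.1 (jS' s) = (μ s : ℂ) ^ Cfsg.charDegree ψ'.1)
  have hdeg1 : ∀ (ψ : Cfsg.IrrCharacter M) (θ : Cfsg.IrrCharacter K),
      (∀ k, ψ.1 (jK k) = θ.1 k) → Cfsg.charDegree ψ.1 = Cfsg.charDegree θ.1 := fun ψ θ h => by
    simp only [Cfsg.charDegree]
    rw [← h 1, map_one]
  have hdeg2 : ∀ (ψ : Cfsg.IrrCharacter MN) (θ : Cfsg.IrrCharacter C),
      (∀ k, ψ.1 (jC k) = θ.1 k) → Cfsg.charDegree ψ.1 = Cfsg.charDegree θ.1 := fun ψ θ h => by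
    simp only [Cfsg.charDegree]
    rw [← h 1, map_one]
  have hRdeg : ∀ {ψ ψ'}, Rel ψ ψ' →
      ¬ p ∣ Cfsg.charDegree ψ.1 ∧ ¬ p ∣ Cfsg.charDegree ψ'.1 := by
    rintro ψ ψ' ⟨θ, φ, μ, h1, h2, -⟩
    rw [hdeg1 ψ θ h1, hdeg2 ψ' φ h2]
    exact ⟨hdegK θ, hdegC φ⟩
  have hex : ∀ ψ, ¬ p ∣ Cfsg.charDegree ψ.1 → ∃ ψ', Rel ψ ψ' := by
    intro ψ hψ
    obtain ⟨θ, hθ⟩ := exists_restrict_hom jK hjK0 hnK ψ (hcopM ψ hψ)
    obtain ⟨φ, hφ, -⟩ := existsUnique_glau hS hK hSK hC hCK θ (hfixK ψ θ hθ)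
    obtain ⟨f, hf, -⟩ := H43.exists_detHom (H26.irr_isCharacter ψ)
    obtain ⟨μ, hμ, -⟩ := exists_root (a := f.comp jS) (hom_pow_card _) (hcopd hψ)
    obtain ⟨ψ', ⟨h1, h2⟩, -⟩ := existsUnique_ext_det jC jS' hjC0 hjS'0 hnC hgenC hpC hS φ
      (hfixC φ) (μ ^ Cfsg.charDegree φ.1)
    refine ⟨ψ', θ, φ, μ, hθ, h1, hφ, fun s => ?_, fun s => ?_⟩
    · rw [hf, ← Units.val_pow_eq_pow_val, ← MonoidHom.pow_apply, hμ]
      rfl
    · rw [h2, hdeg2 ψ' φ h1, MonoidHom.pow_apply, Units.val_pow_eq_pow_val]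
  have hex' : ∀ ψ', ¬ p ∣ Cfsg.charDegree ψ'.1 → ∃ ψ, Rel ψ ψ' := by
    intro ψ' hψ'
    obtain ⟨φ, hφ⟩ := exists_restrict_hom jC hjC0 hnC ψ' (hcopMN ψ' hψ')
    obtain ⟨θ, hθS, hθφ⟩ := (glaubermanData hS hK hSK hC hCK).exists_of_res φ
    have hθφ' : ¬ p ∣ resMultLe hCK θ φ := by rw [resMultLe_def]; exact hθφ
    obtain ⟨f, hf, -⟩ := H43.exists_detHom (H26.irr_isCharacter ψ')
    obtain ⟨μ, hμ, -⟩ := exists_root (a := f.comp jS') (hom_pow_card _) (hcopd hψ')
    obtain ⟨ψ, ⟨h1, h2⟩, -⟩ := existsUnique_ext_det jK jS hjK0 hjS0 hnK hgenK hK hS θ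
      (fun s k k' h => by
        have h' : (k' : G) = s * k * (s : G)⁻¹ := congrArg Subtype.val h
        rw [show k' = H43.conjHom K S₀ (fun x hx g hg => conj_mem (hSK hx) hg) s k from
          Subtype.ext (h'.trans (H43.conjHom_coe _ _ _ s k).symm)]
        exact hθS s k) (μ ^ Cfsg.charDegree θ.1)
    refine ⟨ψ, θ, φ, μ, h1, hφ, hθφ', fun s => ?_, fun s => ?_⟩
    · rw [h2, hdeg1 ψ θ h1, MonoidHom.pow_apply, Units.val_pow_eq_pow_val]
    · rw [hf, ← Units.val_pow_eq_pow_val, ← MonoidHom.pow_apply, hμ]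
      rfl
  have hμu : ∀ (μ ν : S₀ →* ℂˣ) (d : ℕ), ¬ p ∣ d →
      (∀ s, (μ s : ℂ) ^ d = (ν s : ℂ) ^ d) → μ = ν := fun μ ν d hd h =>
    eq_of_pow_eq (MonoidHom.ext fun s => Units.ext (by
      rw [MonoidHom.pow_apply, MonoidHom.pow_apply, Units.val_pow_eq_pow_val,
        Units.val_pow_eq_pow_val, h])) (hom_pow_card μ) (hom_pow_card ν) (hcopd hd)
  have hun : ∀ {ψ ψ₁ ψ₂}, Rel ψ ψ₁ → Rel ψ ψ₂ → ψ₁ = ψ₂ := by
    rintro ψ ψ₁ ψ₂ ⟨θ₁, φ₁, μ₁, a1, b1, c1, d1, e1⟩ ⟨θ₂, φ₂, μ₂, a2, b2, c2, d2, e2⟩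
    obtain rfl : θ₁ = θ₂ := Subtype.ext (funext fun k => (a1 k).symm.trans (a2 k))
    obtain ⟨φ, -, hu⟩ := existsUnique_glau hS hK hSK hC hCK θ₁ (hfixK ψ θ₁ a1)
    obtain rfl : φ₁ = φ₂ := (hu _ c1).trans (hu _ c2).symm
    obtain rfl : μ₁ = μ₂ := hμu _ _ (Cfsg.charDegree ψ.1)
      (by rw [hdeg1 ψ θ₁ a1]; exact hdegK θ₁) fun s => (d1 s).symm.trans (d2 s)
    refine (existsUnique_ext_det jC jS' hjC0 hjS'0 hnC hgenC hpC hS φ₁ (hfixC φ₁)
      (μ₁ ^ Cfsg.charDegree φ₁.1)).unique ⟨b1, fun s => ?_⟩ ⟨b2, fun s => ?_⟩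
    · rw [e1, hdeg2 ψ₁ φ₁ b1, MonoidHom.pow_apply, Units.val_pow_eq_pow_val]
    · rw [e2, hdeg2 ψ₂ φ₁ b2, MonoidHom.pow_apply, Units.val_pow_eq_pow_val]
  have hun' : ∀ {ψ₁ ψ₂ ψ'}, Rel ψ₁ ψ' → Rel ψ₂ ψ' → ψ₁ = ψ₂ := by
    rintro ψ₁ ψ₂ ψ' ⟨θ₁, φ₁, μ₁, a1, b1, c1, d1, e1⟩ ⟨θ₂, φ₂, μ₂, a2, b2, c2, d2, e2⟩
    obtain rfl : φ₁ = φ₂ := Subtype.ext (funext fun k => (b1 k).symm.trans (b2 k))
    obtain rfl : θ₁ = θ₂ := by
      by_contra hne
      have hinv : ∀ (ψ : Cfsg.IrrCharacter M) (θ : Cfsg.IrrCharacter K),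
          (∀ k, ψ.1 (jK k) = θ.1 k) →
          H43.InvFun (H43.conjHom K S₀ fun x hx g hg => conj_mem (hSK hx) hg) θ.1 :=
        fun ψ θ h s g => hfixK ψ θ h s s.2 g _ (H43.conjHom_coe _ _ _ s g)
      rw [resMultLe_def] at c1 c2
      exact ((glaubermanData hS hK hSK hC hCK).disjoint (hinv ψ₁ θ₁ a1) (hinv ψ₂ θ₂ a2) hne
        φ₁).elim c1 c2
    obtain rfl : μ₁ = μ₂ := hμu _ _ (Cfsg.charDegree ψ'.1)
      (by rw [hdeg2 ψ' φ₁ b1]; exact hdegC φ₁) fun s => (e1 s).symm.trans (e2 s)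
    refine (existsUnique_ext_det jK jS hjK0 hjS0 hnK hgenK hK hS θ₁ (fun s k k' h =>
      hfixK ψ₁ θ₁ a1 s s.2 k k' (congrArg Subtype.val h))
      (μ₁ ^ Cfsg.charDegree θ₁.1)).unique ⟨a1, fun s => ?_⟩ ⟨a2, fun s => ?_⟩
    · rw [d1, hdeg1 ψ₁ θ₁ a1, MonoidHom.pow_apply, Units.val_pow_eq_pow_val]
    · rw [d2, hdeg1 ψ₂ θ₁ a2, MonoidHom.pow_apply, Units.val_pow_eq_pow_val]
  -- equivariance
  have hequiv : ∀ (g : N) {ψ ψ'}, Rel ψ ψ' →
      Rel (H43.irrConj M (g : G) ψ) (H43.irrConj MN g ψ') := by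
    rintro g ψ ψ' ⟨θ, φ, μ, h1, h2, h3, h4, h5⟩
    have hgC : ∀ c : G, c ∈ C ↔ (g : G) * c * (g : G)⁻¹ ∈ C := fun c =>
      ⟨hmemC g g.2 c, fun h => by
        have := hmemC (g : G)⁻¹ (N.inv_mem g.2) _ h
        simpa [mul_assoc] using this⟩
    let eC : C ≃* C :=
      { toFun := fun c => ⟨(g : G) * c * (g : G)⁻¹, (hgC c).1 c.2⟩
        invFun := fun c => ⟨(g : G)⁻¹ * c * (g : G), (hgC _).2 (by simp [mul_assoc])⟩
        left_inv := fun c => Subtype.ext (by simp [mul_assoc])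
        right_inv := fun c => Subtype.ext (by simp [mul_assoc])
        map_mul' := fun a b => Subtype.ext (by simp [mul_assoc]) }
    let eS : S₀ →* S₀ := MonoidHom.mk' (fun s => ⟨(g : G) * s * (g : G)⁻¹, conj_mem g.2 s.2⟩)
      fun a b => Subtype.ext (by simp [mul_assoc])
    refine ⟨H43.irrConj K (g : G) θ, H43.irrCongr eC φ, μ.comp eS, fun k => ?_, fun c => ?_, ?_,
      fun s => ?_, fun s => ?_⟩
    · rw [H43.irrConj_apply, H43.irrConj_apply, ← h1]
      exact congrArg ψ.1 (Subtype.ext rfl)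
    · rw [H43.irrConj_apply, H43.irrCongr_apply, ← h2]
      exact congrArg ψ'.1 (Subtype.ext (Subtype.ext rfl))
    · rw [resMultLe_def] at h3 ⊢
      rw [show (fun c : C => (H43.irrConj K (g : G) θ).1 (Subgroup.inclusion hCK c)) =
        fun c => (fun x : C => θ.1 (Subgroup.inclusion hCK x)) (eC c) from
        funext fun c => congrArg θ.1 (Subtype.ext rfl),
        H45.mult_congr eC (fun x : C => θ.1 (Subgroup.inclusion hCK x)) φ]
      exact h3
    · rw [show Cfsg.charDegree (H43.irrConj M (g : G) ψ).1 = Cfsg.charDegree ψ.1 from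
        H43.charDegree_irrCongr _ _, MonoidHom.comp_apply, ← h4 (eS s)]
      rw [show (H43.irrConj M (g : G) ψ).1 =
        fun x => ψ.1 ((MulAut.conjNormal (g : G) : M ≃* M).toMonoidHom x) from rfl,
        H43.detChar_comp _ (H26.irr_isCharacter ψ)]
      exact congrArg (Cfsg.detChar ψ.1) (Subtype.ext rfl)
    · rw [show Cfsg.charDegree (H43.irrConj MN g ψ').1 = Cfsg.charDegree ψ'.1 from
        H43.charDegree_irrCongr _ _, MonoidHom.comp_apply, ← h5 (eS s)]
      rw [show (H43.irrConj MN g ψ').1 =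
        fun x => ψ'.1 ((MulAut.conjNormal g : MN ≃* MN).toMonoidHom x) from rfl,
        H43.detChar_comp _ (H26.irr_isCharacter ψ')]
      exact congrArg (Cfsg.detChar ψ'.1) (Subtype.ext (Subtype.ext rfl))
  have hfixiff : ∀ (g : N) {ψ ψ'}, Rel ψ ψ' → (Fix M ψ.1 (g : G) ↔ Fix MN ψ'.1 g) := by
    intro g ψ ψ' h
    have h1 : Fix M ψ.1 (g : G) ↔ H43.irrConj M (g : G) ψ = ψ := by
      refine ⟨fun hf => Subtype.ext (funext fun k => hf k _ (MulAut.conjNormal_apply _ _)),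
        fun hf k l hkl => ?_⟩
      rw [show l = MulAut.conjNormal (g : G) k from
        Subtype.ext (hkl.trans (MulAut.conjNormal_apply _ _).symm)]
      exact congrFun (congrArg Subtype.val hf) k
    have h2 : Fix MN ψ'.1 g ↔ H43.irrConj MN g ψ' = ψ' := by
      refine ⟨fun hf => Subtype.ext (funext fun k => hf k _ (MulAut.conjNormal_apply _ _)),
        fun hf k l hkl => ?_⟩
      rw [show l = MulAut.conjNormal g k from
        Subtype.ext (hkl.trans (MulAut.conjNormal_apply _ _).symm)]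
      exact congrFun (congrArg Subtype.val hf) k
    rw [h1, h2]
    refine ⟨fun hf => ?_, fun hf => ?_⟩
    · have := hequiv g h
      rw [hf] at this
      exact hun this h
    · have := hequiv g h
      rw [hf] at this
      exact hun' this h
  -- the commutator sums agree
  have homega : ∀ (g h : HN), ⁅((g : N) : G), ((h : N) : G)⁆ ∈ M → ∀ {ψ ψ'}, Rel ψ ψ' →
      omega M ψ.1 ((g : N) : G) ((h : N) : G) = omega MN ψ'.1 (g : N) (h : N) := by
    intro g h hgh ψ ψ' hR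
    have hgH : ((g : N) : G) ∈ H := Subgroup.mem_map_of_mem _ g.2
    have hhH : ((h : N) : G) ∈ H := Subgroup.mem_map_of_mem _ h.2
    have hgC : ⁅((g : N) : G), ((h : N) : G)⁆ ∈ C := hHM _ (by
      rw [commutatorElement_def]
      exact H.mul_mem (H.mul_mem (H.mul_mem hgH hhH) (H.inv_mem hgH)) (H.inv_mem hhH)) hgh
    have hnM : ∀ x : G, x ∈ Subgroup.normalizer (M : Set G) := fun x => by
      rw [Subgroup.normalizer_eq_top]; trivial
    have hnMN : ∀ x : N, x ∈ Subgroup.normalizer (MN : Set N) := fun x => by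
      rw [Subgroup.normalizer_eq_top]; trivial
    have hnKall : ∀ x : G, x ∈ Subgroup.normalizer (K : Set G) := fun x => by
      rw [Subgroup.normalizer_eq_top]; trivial
    have hgh' : ⁅(g : N), (h : N)⁆ ∈ MN := hgh
    by_cases hfh : Fix M ψ.1 ((h : N) : G)
    swap
    · rw [omega_eq_zero M (hnM _) (hnM _) hgh ψ hfh, omega_eq_zero MN (hnMN _) (hnMN _) hgh' ψ'
        (fun hc => hfh ((hfixiff _ hR).2 hc))]
    by_cases hfg : Fix M ψ.1 ((g : N) : G)
    swap
    · have hhg : ⁅((h : N) : G), ((g : N) : G)⁆ ∈ M := by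
        rw [← commutatorElement_inv]; exact M.inv_mem hgh
      have hhg' : ⁅(h : N), (g : N)⁆ ∈ MN := hhg
      rw [omega_swap M ψ, omega_eq_zero M (hnM _) (hnM _) hhg ψ hfg, omega_swap MN ψ',
        omega_eq_zero MN (hnMN _) (hnMN _) hhg' ψ' (fun hc => hfg ((hfixiff _ hR).2 hc))]
    have hfg' := (hfixiff _ hR).1 hfg
    have hfh' := (hfixiff _ hR).1 hfh
    obtain ⟨θ, φ, μ, h1, h2, h3, -, -⟩ := hR
    -- the group generated
    set E : Subgroup G := Subgroup.closure {((g : N) : G), ((h : N) : G)} with hE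
    have hEH : E ≤ H := (Subgroup.closure_le H).2 (by
      rintro x (rfl | rfl) <;> assumption)
    have hEc : ∀ a ∈ E, ∀ b ∈ E, ⁅a, b⁆ ∈ C := by
      let CN : Subgroup N := C.subgroupOf N
      haveI : CN.Normal := ⟨fun c hc x => hmemC x x.2 c hc⟩
      let q := QuotientGroup.mk' CN
      have hq : ∀ a b : N, Commute (q a) (q b) ↔ ⁅(a : G), (b : G)⁆ ∈ C := fun a b => by
        rw [← commutatorElement_eq_one_iff_commute, ← map_commutatorElement,
          QuotientGroup.mk'_apply, QuotientGroup.eq_one_iff]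
        rfl
      have hgh0 : Commute (q g) (q h) := (hq _ _).2 hgC
      intro a ha b hb
      set D : Subgroup (N ⧸ CN) := Subgroup.closure {q g, q h} with hD
      have hmap : E.subgroupOf N ≤ D.comap q := by
        intro x hx
        have hle : E ≤ (D.comap q).map N.subtype := (Subgroup.closure_le _).2 (by
          rintro y (rfl | rfl)
          · exact ⟨_, Subgroup.subset_closure (Or.inl rfl), rfl⟩
          · exact ⟨_, Subgroup.subset_closure (Or.inr rfl), rfl⟩)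
        obtain ⟨y, hy, e⟩ := hle hx
        rwa [show x = y from Subtype.ext e.symm]
      have haN := hHN' (hEH ha)
      have hbN := hHN' (hEH hb)
      refine (hq ⟨a, haN⟩ ⟨b, hbN⟩).1 ?_
      have hDc : D ≤ Subgroup.centralizer (D : Set (N ⧸ CN)) := by
        rw [hD, Subgroup.centralizer_closure, Subgroup.closure_le]
        intro x hx y hy
        rcases hx with rfl | rfl <;> rcases hy with rfl | rfl
        · rfl
        · exact hgh0.eq.symm
        · exact hgh0.eq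
        · rfl
      exact ((Subgroup.mem_centralizer_iff.1 (hDc (hmap (x := ⟨a, haN⟩) ha)) _
        (hmap (x := ⟨b, hbN⟩) hb))).symm
    have hfK : ∀ x : G, Fix M ψ.1 x → Fix K θ.1 x := fun x hx k l hkl => by
      rw [← h1, ← h1]
      exact hx (jK k) (jK l) hkl
    have hθE : ∀ e ∈ E, Fix K θ.1 e := by
      intro e he
      suffices h : ∀ x ∈ E, H43.irrConj K x θ = θ by
        intro k l hkl
        rw [show l = MulAut.conjNormal e k from
          Subtype.ext (hkl.trans (MulAut.conjNormal_apply _ _).symm)]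
        exact congrFun (congrArg Subtype.val (h e he)) k
      have hgen : ∀ x : G, Fix K θ.1 x → H43.irrConj K x θ = θ := fun x hx =>
        Subtype.ext (funext fun k => hx k _ (MulAut.conjNormal_apply _ _))
      intro x hx
      induction hx using Subgroup.closure_induction with
      | mem y hy =>
        rcases hy with rfl | rfl
        · exact hgen _ (hfK _ hfg)
        · exact hgen _ (hfK _ hfh)
      | one => exact hgen 1 (fix_one K θ.1)
      | mul y z _ _ hy hz => rw [← H43.irrConj_irrConj, hy, hz]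
      | inv y _ hy =>
        conv_lhs => rw [← hy]
        rw [H43.irrConj_irrConj, mul_inv_cancel]
        exact hgen 1 (fix_one K θ.1)
    let CN : Subgroup N := C.subgroupOf N
    let φN : Cfsg.IrrCharacter CN := H43.irrCongr (Subgroup.subgroupOfEquivOfLe hCN) φ
    have hCNM : CN ≤ MN := fun c hc => hKM (hCK hc)
    have hnC' : ∀ x : G, x ∈ N → x ∈ Subgroup.normalizer (C : Set G) := fun x hx =>
      Subgroup.mem_normalizer_iff.2 fun c => ⟨hmemC x hx c, fun hc => by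
        have := hmemC x⁻¹ (N.inv_mem hx) _ hc
        simpa [mul_assoc] using this⟩
    have hnCN : ∀ x : N, x ∈ Subgroup.normalizer (CN : Set N) := fun x =>
      Subgroup.mem_normalizer_iff.2 fun c =>
        (Subgroup.mem_normalizer_iff.1 (hnC' x x.2) (c : G))
    rw [omega_restrict K M hKM (hnKall _) (hnKall _) (hnM _) (hnM _) (hCK hgC) θ ψ h1 hfg hfh,
      omega_glauberman E hS hK hSK hC hCK hEc
        (fun hd => hpH (hd.trans (Subgroup.card_dvd_of_le hEH)))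
        Subgroup.le_normalizer_of_normal (hEH.trans hHN') θ (hfixK ψ θ h1) hθE φ h3
        (Subgroup.subset_closure (Or.inl rfl)) (Subgroup.subset_closure (Or.inr rfl)),
      omega_restrict CN MN hCNM (hnCN _) (hnCN _) (hnMN _) (hnMN _) hgC φN ψ'
        (fun k => h2 (Subgroup.subgroupOfEquivOfLe hCN k)) hfg' hfh']
    exact omega_map N.subtype CN C (Subgroup.subgroupOfEquivOfLe hCN) (fun k => rfl) φN.1 φ.1
      (fun k => rfl) (hnCN _) (hnCN _) hgC
  -- good characters correspond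
  have hgood : ∀ {ψ ψ'}, Rel ψ ψ' → ∀ (z : G) (hz : z ∈ Z),
      ∃ a : ℂ, ψ.1 ⟨z, hZM hz⟩ = a * ψ.1 1 ∧
        ∀ hzN : z ∈ N, ψ'.1 ⟨⟨z, hzN⟩, hZM hz⟩ = a * ψ'.1 1 := by
    rintro ψ ψ' ⟨θ, φ, μ, h1, h2, h3, h4, h5⟩ z hz
    have hzc : z ∈ Subgroup.center G := hZc hz
    have hzN : z ∈ N := Subgroup.center_le_normalizer _ hzc
    obtain ⟨w, hw⟩ := exists_centralHom ψ
    obtain ⟨w', hw'⟩ := exists_centralHom ψ'
    have hcM : ∀ (x : G) (hx : x ∈ M), x ∈ Subgroup.center G →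
        (⟨x, hx⟩ : M) ∈ Subgroup.center M := fun x hx hxc =>
      Subgroup.mem_center_iff.2 fun y => Subtype.ext (Subgroup.mem_center_iff.1 hxc (y : G))
    have hcMN : ∀ (x : G) (hx : x ∈ N) (hx' : x ∈ M), x ∈ Subgroup.center G →
        (⟨⟨x, hx⟩, hx'⟩ : MN) ∈ Subgroup.center MN := fun x hx hx' hxc =>
      Subgroup.mem_center_iff.2 fun y => Subtype.ext (Subtype.ext
        (Subgroup.mem_center_iff.1 hxc ((y : N) : G)))
    let zc : Subgroup.center M := ⟨⟨z, hZM hz⟩, hcM z _ hzc⟩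
    let zc' : Subgroup.center MN := ⟨⟨⟨z, hzN⟩, hZM hz⟩, hcMN z hzN _ hzc⟩
    have hzpow : z ^ (Nat.card K * Nat.card S₀) = 1 := by
      rw [← hcardM]
      exact congrArg Subtype.val (pow_card_eq_one' (x := (⟨z, hZM hz⟩ : M)))
    have hA : z ^ Nat.card S₀ ∈ K := by
      refine mem_of_pow_eq_one hKM (M.pow_mem (hZM hz) _) (n := Nat.card K) ?_ ?_
      · rw [← pow_mul, mul_comm, hzpow]
      · rw [hrel]; exact hcopKS
    have hB : z ^ Nat.card K ∈ S₀ := by
      have hbc : z ^ Nat.card K ∈ Subgroup.center G := Subgroup.pow_mem _ hzc _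
      have hbp : IsPGroup p (Subgroup.zpowers (z ^ Nat.card K)) := by
        obtain ⟨m, hm⟩ := IsPGroup.iff_card.1 hS
        rw [IsPGroup.iff_card]
        obtain ⟨i, -, hi⟩ := (Nat.dvd_prime_pow hp.out).1
          (orderOf_dvd_of_pow_eq_one (x := z ^ Nat.card K) (n := p ^ m)
            (by rw [← pow_mul, ← hm, hzpow]))
        exact ⟨i, by rw [Nat.card_zpowers, hi]⟩
      have hle : Subgroup.zpowers (z ^ Nat.card K) ≤ N := Subgroup.zpowers_le.2
        (Subgroup.center_le_normalizer _ hbc)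
      have h := S.3 (hS.to_sup_of_normal_left' hbp hle) le_sup_left
      rw [hS₀, ← h]
      exact Subgroup.mem_sup_right (Subgroup.mem_zpowers _)
    have hAC : z ^ Nat.card S₀ ∈ C := hKN _ hA (N.pow_mem hzN _)
    -- the `p'`-part
    have hA' : (w zc : ℂ) ^ Nat.card S₀ = (w' zc' : ℂ) ^ Nat.card S₀ := by
      set a : K := ⟨_, hA⟩ with ha
      set b : C := ⟨_, hAC⟩ with hb
      have hac : a ∈ Subgroup.center K := Subgroup.mem_center_iff.2 fun y =>
        Subtype.ext (Subgroup.mem_center_iff.1 (Subgroup.pow_mem _ hzc _) (y : G))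
      have hbc : b ∈ Subgroup.center C := Subgroup.mem_center_iff.2 fun y =>
        Subtype.ext (Subgroup.mem_center_iff.1 (Subgroup.pow_mem _ hzc _) (y : G))
      have e1 := (hw (zc ^ Nat.card S₀)).1 1
      rw [one_mul, map_pow, Units.val_pow_eq_pow_val,
        show ((zc ^ Nat.card S₀ : Subgroup.center M) : M) = jK a from Subtype.ext rfl,
        h1, show ψ.1 1 = θ.1 1 by rw [← h1 1, map_one]] at e1
      have e2 := (hw' (zc' ^ Nat.card S₀)).1 1
      rw [one_mul, map_pow, Units.val_pow_eq_pow_val,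
        show ((zc' ^ Nat.card S₀ : Subgroup.center MN) : MN) = jC b from
          Subtype.ext (Subtype.ext rfl),
        h2, show ψ'.1 1 = φ.1 1 by rw [← h2 1, map_one]] at e2
      refine central_scalar_of_mult (Subgroup.inclusion hCK) θ φ ?_ hbc hac _ _ e1 e2
      intro h0
      exact h3 (by rw [resMultLe_def, h0]; exact dvd_zero p)
    -- the `p`-part
    have hB' : (w zc : ℂ) ^ Nat.card K = (w' zc' : ℂ) ^ Nat.card K := by
      set s : S₀ := ⟨_, hB⟩ with hs
      have key : ∀ {X : Type u} [Group X] [Fintype X] (χ : Cfsg.IrrCharacter X)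
          (c : Subgroup.center X →* ℂˣ) (x : Subgroup.center X) (j : S₀ →* X),
          (∀ y : Subgroup.center X,
            Cfsg.detChar χ.1 y = (c y : ℂ) ^ Cfsg.charDegree χ.1) →
          ((x ^ Nat.card K : Subgroup.center X) : X) = j s →
          x ^ (Nat.card K * Nat.card S₀) = 1 → ¬ p ∣ Cfsg.charDegree χ.1 →
          Cfsg.detChar χ.1 (j s) = (μ s : ℂ) ^ Cfsg.charDegree χ.1 →
          (c x : ℂ) ^ Nat.card K = (μ s : ℂ) := by
        intro X _ _ χ c x j hc hx hx1 hdeg hdet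
        rw [← hx, hc] at hdet
        rw [← Units.val_pow_eq_pow_val, ← map_pow]
        refine congrArg Units.val (eq_of_pow_eq (d := Cfsg.charDegree χ.1) (Units.ext (by
          rw [Units.val_pow_eq_pow_val, Units.val_pow_eq_pow_val]; exact hdet))
          (n := Nat.card S₀) ?_ (DFunLike.congr_fun (hom_pow_card μ) s) (hcopd hdeg))
        rw [← map_pow, ← pow_mul, hx1, map_one]
      rw [key ψ w zc jS (fun y => (hw y).2) (Subtype.ext rfl)
          (Subtype.ext (Subtype.ext hzpow)) (by rw [hdeg1 ψ θ h1]; exact hdegK θ) (h4 s),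
        key ψ' w' zc' jS' (fun y => (hw' y).2) (Subtype.ext (Subtype.ext rfl))
          (Subtype.ext (Subtype.ext (Subtype.ext hzpow)))
          (by rw [hdeg2 ψ' φ h2]; exact hdegC φ) (h5 s)]
    have hww : w zc = w' zc' := by
      rw [← div_eq_one]
      refine eq_one_of_pows (d := Nat.card S₀) (n := Nat.card K) ?_ ?_ hcopKS.symm
      · rw [div_pow, div_eq_one]
        exact Units.ext (by simpa [Units.val_pow_eq_pow_val] using hA')
      · rw [div_pow, div_eq_one]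
        exact Units.ext (by simpa [Units.val_pow_eq_pow_val] using hB')
    refine ⟨(w zc : ℂ), ?_, fun hzN' => ?_⟩
    · have h := (hw zc).1 1
      rwa [one_mul] at h
    · have h := (hw' zc').1 1
      rw [one_mul, ← hww] at h
      exact h
  -- the two counts
  set X : Finset (Cfsg.IrrCharacter M) :=
    Finset.univ.filter fun ψ => Good p Z lam M ψ.1 with hXdef
  set X' : Finset (Cfsg.IrrCharacter MN) :=
    Finset.univ.filter fun ψ => Good p (Z.subgroupOf N) (fun z => lam z) MN ψ.1 with hX'def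
  have hmemX : ∀ ψ, ψ ∈ X ↔ Good p Z lam M ψ.1 := fun ψ => by
    rw [hXdef, Finset.mem_filter, and_iff_right (Finset.mem_univ ψ)]
  have hmemX' : ∀ ψ, ψ ∈ X' ↔ Good p (Z.subgroupOf N) (fun z => lam z) MN ψ.1 := fun ψ => by
    rw [hX'def, Finset.mem_filter, and_iff_right (Finset.mem_univ ψ)]
  have hgiff : ∀ {ψ ψ'}, Rel ψ ψ' → (ψ ∈ X ↔ ψ' ∈ X') := by
    intro ψ ψ' hR
    rw [hmemX, hmemX', Good, Good]
    refine and_congr (iff_of_true (hRdeg hR).1 (hRdeg hR).2) ⟨fun h x hx => ?_, fun h x hx => ?_⟩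
    · obtain ⟨a, ha, ha'⟩ := hgood hR _ hx
      have hl : a = lam ((x : N) : G) :=
        mul_right_cancel₀ (H26.irr_one_ne_zero ψ) (ha.symm.trans (h ⟨_, hZM hx⟩ hx))
      rw [← hl]
      exact ha' (x : N).2
    · obtain ⟨a, ha, ha'⟩ := hgood hR _ hx
      have hxN : (x : G) ∈ N := Subgroup.center_le_normalizer _ (hZc hx)
      have hl : a = lam (x : G) := mul_right_cancel₀ (H26.irr_one_ne_zero ψ')
        ((ha' hxN).symm.trans (h ⟨⟨_, hxN⟩, hZM hx⟩ hx))
      rw [← hl]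
      exact ha
  have hsum : ∀ (g h : HN), ⁅((g : N) : G), ((h : N) : G)⁆ ∈ M →
      ∑ ψ ∈ X, omega M ψ.1 ((g : N) : G) ((h : N) : G) =
        ∑ ψ ∈ X', omega MN ψ.1 (g : N) (h : N) := by
    intro g h hgh
    have hd : ∀ ψ ∈ X, ¬ p ∣ Cfsg.charDegree ψ.1 := fun ψ hψ => (Finset.mem_filter.1 hψ).2.1
    refine Finset.sum_bij (fun ψ hψ => Classical.choose (hex ψ (hd ψ hψ))) ?_ ?_ ?_ ?_
    · exact fun ψ hψ => (hgiff (Classical.choose_spec (hex ψ (hd ψ hψ)))).1 hψ
    · intro a ha b hb hab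
      exact hun' (hab ▸ Classical.choose_spec (hex a (hd a ha)))
        (Classical.choose_spec (hex b (hd b hb)))
    · intro ψ' hψ'
      obtain ⟨ψ, hR⟩ := hex' ψ' (Finset.mem_filter.1 hψ').2.1
      refine ⟨ψ, (hgiff hR).2 hψ', ?_⟩
      exact hun (Classical.choose_spec (hex ψ (hRdeg hR).1)) hR
    · exact fun ψ hψ => homega g h hgh (Classical.choose_spec (hex ψ (hd ψ hψ)))
  have hZN : Z ≤ N := hZc.trans (Subgroup.center_le_normalizer _)
  have hgenN : HN ⊔ MN = ⊤ := by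
    rw [eq_top_iff, ← hHN.sup_eq_top]
    exact sup_le_sup le_rfl fun x hx => hSM hx
  have hidxN : ¬ p ∣ MN.index := fun h =>
    hidx (h.trans (Subgroup.relIndex_dvd_index_of_normal M N))
  have hG := card_good_mul_card M H hHgen hidx Z hZc hZM lam X
    hmemX
  have hNn := card_good_mul_card MN HN hgenN hidxN (Z.subgroupOf N)
    (fun x hx => Subgroup.mem_center_iff.2 fun y =>
      Subtype.ext (Subgroup.mem_center_iff.1 (hZc hx) (y : G)))
    (fun x hx => hZM hx) (fun z => lam z) X' hmemX'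
  set e : HN ≃* H := HN.equivMapOfInjective _ N.subtype_injective with he
  have hcard1 : Nat.card H = Nat.card HN := (Nat.card_congr e.toEquiv).symm
  have hcard2 : Nat.card (H ⊓ M : Subgroup G) = Nat.card (HN ⊓ MN : Subgroup N) := by
    rw [Nat.card_congr ((HN ⊓ MN).equivMapOfInjective _ N.subtype_injective).toEquiv]
    have : (HN ⊓ MN).map N.subtype = H ⊓ M := by
      rw [Subgroup.map_inf _ _ _ N.subtype_injective, hMN, Subgroup.subgroupOf_map_subtype,
        ← hHdef, ← inf_assoc, inf_eq_left.2 (inf_le_left.trans hHN')]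
    rw [this]
  have hne : (Nat.card H : ℂ) * (Nat.card (H ⊓ M : Subgroup G) : ℂ) ≠ 0 :=
    mul_ne_zero (Nat.cast_ne_zero.2 Nat.card_pos.ne') (Nat.cast_ne_zero.2 Nat.card_pos.ne')
  refine Nat.cast_injective (R := ℂ) (mul_right_cancel₀ hne ?_)
  rw [hG]
  rw [hcard1, hcard2]
  refine Eq.trans ?_ hNn.symm
  rw [← e.toEquiv.sum_comp]
  refine Finset.sum_congr rfl fun g _ => ?_
  rw [← e.toEquiv.sum_comp]
  refine Finset.sum_congr rfl fun h _ => ?_
  show (if ⁅((g : N) : G), ((h : N) : G)⁆ ∈ M then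
      ∑ ψ ∈ X, omega M ψ.1 ((g : N) : G) ((h : N) : G) else 0) = _
  by_cases hc : ⁅((g : N) : G), ((h : N) : G)⁆ ∈ M
  · rw [if_pos hc, hsum g h hc, if_pos (show ⁅(g : N), (h : N)⁆ ∈ MN from hc)]
  · rw [if_neg hc, if_neg (show ¬ ⁅(g : N), (h : N)⁆ ∈ MN from hc)]

end Cfsg.Agent.H63.McKay
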