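import Cfsg.Agent.H63.McKay.Cnt
import Cfsg.Agent.S0854
import Cfsg.Agent.S1489

/-!
# Reduction to the stabiliser of a character
-/

set_option autoImplicit false

open scoped ComplexConjugate

namespace Cfsg.Agent.H63.McKay

universe u v

/-- Multiplicities compose. -/
theorem mult_trans {G I L : Type*} [Group G] [Group I] [Fintype I] [Group L] [Fintype L]
    (i : I →* G) (j : L →* I) {χ : G → ℂ} (hχ : Cfsg.IsCharacter G χ)
    (ν : Cfsg.IrrCharacter L) :
    H43.mult (fun l => χ (i (j l))) ν =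
      ∑ φ : Cfsg.IrrCharacter I, H43.mult (fun x => χ (i x)) φ * H43.mult (fun l => φ.1 (j l)) ν := by
  refine H43.mult_eq_of_classInner ?_
  have hc : Cfsg.IsCharacter I (fun x => χ (i x)) := H26.isCharacter_comp hχ i
  push_cast
  simp_rw [← H43.classInner_eq_mult (φ := fun l => (_ : Cfsg.IrrCharacter I).1 (j l))
    (H26.isCharacter_comp (H26.irr_isCharacter _) j) ν]
  simp only [Cfsg.classInner]
  simp_rw [mul_left_comm _ ((Nat.card L : ℂ)⁻¹), ← Finset.mul_sum]
  congr 1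
  rw [Finset.sum_congr rfl fun φ _ => Finset.mul_sum _ _ _, Finset.sum_comm]
  refine Finset.sum_congr rfl fun l _ => ?_
  rw [congrFun (H43.eq_sum_mult hc) (j l), Finset.sum_apply, Finset.sum_mul]
  exact Finset.sum_congr rfl fun φ _ => by rw [Pi.smul_apply, smul_eq_mul]; ring

theorem over_trans {G I L : Type*} [Group G] [Group I] [Fintype I] [Group L] [Fintype L]
    (i : I →* G) (j : L →* I) {χ : G → ℂ} (hχ : Cfsg.IsCharacter G χ)
    (φ : Cfsg.IrrCharacter I) (ν : Cfsg.IrrCharacter L) (h1 : Over i φ.1 χ)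
    (h2 : Over j ν.1 φ.1) : Over (i.comp j) ν.1 χ := by
  rw [over_iff _ _ hχ] at h1 ⊢
  rw [over_iff _ _ (H26.irr_isCharacter φ)] at h2
  show H43.mult (fun l => χ (i (j l))) ν ≠ 0
  rw [mult_trans i j hχ]
  intro h
  exact mul_ne_zero h1 h2 ((Finset.sum_eq_zero_iff.1 h) φ (Finset.mem_univ φ))

variable {G : Type u} [Group G]

/-- The stabiliser of a character of a normal subgroup. -/
noncomputable def stab (L : Subgroup G) [L.Normal] (θ : Cfsg.IrrCharacter L) : Subgroup G where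
  carrier := {g | H43.irrConj L g θ = θ}
  one_mem' := Subtype.ext (funext fun n => by simp [H43.irrConj_apply])
  mul_mem' := fun {a b} ha hb => by
    show H43.irrConj L (a * b) θ = θ
    rw [← H43.irrConj_irrConj, show H43.irrConj L a θ = θ from ha]
    exact hb
  inv_mem' := fun {a} ha => by
    show H43.irrConj L a⁻¹ θ = θ
    conv_lhs => rw [← show H43.irrConj L a θ = θ from ha]
    rw [H43.irrConj_irrConj, mul_inv_cancel]
    exact Subtype.ext (funext fun n => by simp [H43.irrConj_apply])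

theorem mem_stab {L : Subgroup G} [L.Normal] {θ : Cfsg.IrrCharacter L} {g : G} :
    g ∈ stab L θ ↔ H43.irrConj L g θ = θ := Iff.rfl

theorem fix_iff {L : Subgroup G} [L.Normal] {θ : Cfsg.IrrCharacter L} {g : G} :
    Fix L θ.1 g ↔ H43.irrConj L g θ = θ := by
  refine ⟨fun hf => Subtype.ext (funext fun k => hf k _ (MulAut.conjNormal_apply _ _)),
    fun hf k l hkl => ?_⟩
  rw [show l = MulAut.conjNormal g k from
    Subtype.ext (hkl.trans (MulAut.conjNormal_apply _ _).symm)]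
  exact congrFun (congrArg Subtype.val hf) k

theorem le_stab (L : Subgroup G) [L.Normal] [Finite G] (θ : Cfsg.IrrCharacter L) :
    L ≤ stab L θ := fun g hg => Subtype.ext (funext fun n => by
  rw [H43.irrConj_apply, show MulAut.conjNormal g n = (⟨g, hg⟩ : L) * n * (⟨g, hg⟩ : L)⁻¹ from
    Subtype.ext (MulAut.conjNormal_apply _ _), H26.irr_conj])

theorem mem_stab_iff_forall {L : Subgroup G} [hL : L.Normal] {θ : Cfsg.IrrCharacter L} (g : G) :
    g ∈ stab L θ ↔ ∀ n : L, θ.1 ⟨g * n * g⁻¹, hL.conj_mem (n : G) n.2 g⟩ = θ.1 n := by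
  rw [mem_stab, ← fix_iff]
  exact ⟨fun h n => h n _ rfl, fun h k l hkl => by
    rw [show l = ⟨g * k * g⁻¹, hL.conj_mem (k : G) k.2 g⟩ from Subtype.ext hkl]; exact h k⟩

/-- Clifford: the index of the stabiliser of a constituent divides the degree. -/
theorem index_stab_dvd [Fintype G] (L : Subgroup G) [L.Normal] [Fintype L]
    (θ : Cfsg.IrrCharacter L) (χ : Cfsg.IrrCharacter G) (h : Over L.subtype θ.1 χ.1) :
    (stab L θ).index ∣ Cfsg.charDegree χ.1 := by
  classical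
  haveI : Fintype (stab L θ) := Fintype.ofFinite _
  obtain ⟨ψ, hψ, hind, -⟩ := S0854.result L θ.1 θ.2 (stab L θ) mem_stab_iff_forall
    (le_stab L θ) χ.1 χ.2 ((over_iff_classInner L.subtype θ.1 χ.1).1 h)
  refine ⟨Cfsg.charDegree ψ, ?_⟩
  have h1 : χ.1 1 = ((stab L θ).index : ℂ) * (⟨ψ, hψ⟩ : Cfsg.IrrCharacter (stab L θ)).1 1 := by
    rw [← hind, H25.indFun_one]
  rw [H43.irr_charDegree_spec χ, H43.irr_charDegree_spec ⟨ψ, hψ⟩] at h1
  exact_mod_cast h1

/-- Counting over a character equals counting in its stabiliser. -/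
theorem cnt_inertia [Fintype G] {p : ℕ} [hp : Fact p.Prime] (L : Subgroup G) [L.Normal]
    [Fintype L] (ν : Cfsg.IrrCharacter L) (hidx : ¬ p ∣ (stab L ν).index) :
    cnt p L.subtype ν.1 = cnt p (Subgroup.inclusion (le_stab L ν)) ν.1 := by
  classical
  set T := stab L ν with hT
  have hLT : L ≤ T := le_stab L ν
  haveI : Fintype T := Fintype.ofFinite _
  haveI : Fintype (L.subgroupOf T) := Fintype.ofFinite _
  have hbridge : ∀ ψ : T → ℂ, Cfsg.IsIrrCharacter T ψ →
      Over (Subgroup.inclusion hLT) ν.1 ψ →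
      Cfsg.classInner (Cfsg.indFun (L.subgroupOf T)
        (fun x => ν.1 ⟨(x : T), Subgroup.mem_subgroupOf.mp x.2⟩)) ψ ≠ 0 := by
    intro ψ hψ h
    rw [H25.classInner_indFun_left _ _ _
      (H26.isClassFunction_of_isCharacter (H26.isCharacter_of_irr hψ)),
      ← H25.conj_classInner]
    refine (map_ne_zero _).2 ?_
    rw [over_iff_classInner] at h
    rwa [← H43.classInner_congr (Subgroup.subgroupOfEquivOfLe hLT).symm] 
  have hirr : ∀ ψ : Cfsg.IrrCharacter T, Over (Subgroup.inclusion hLT) ν.1 ψ.1 →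
      Cfsg.IsIrrCharacter G (Cfsg.indFun T ψ.1) := fun ψ h =>
    (S1489.result L T ν.1 ν.2 mem_stab_iff_forall hLT ψ.1 ψ.1 ψ.2 ψ.2 (hbridge _ ψ.2 h)
      (hbridge _ ψ.2 h)).1
  let E : {ψ : Cfsg.IrrCharacter T // ¬ p ∣ Cfsg.charDegree ψ.1 ∧
      Over (Subgroup.inclusion hLT) ν.1 ψ.1} → Cfsg.IrrCharacter G :=
    fun ψ => ⟨Cfsg.indFun T ψ.1.1, hirr ψ.1 ψ.2.2⟩
  have hdeg : ∀ (χ : Cfsg.IrrCharacter G) (ψ : Cfsg.IrrCharacter T),
      Cfsg.indFun T ψ.1 = χ.1 → Cfsg.charDegree χ.1 = T.index * Cfsg.charDegree ψ.1 := by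
    intro χ ψ h
    have h1 : χ.1 1 = (T.index : ℂ) * ψ.1 1 := by rw [← h, H25.indFun_one]
    rw [H43.irr_charDegree_spec χ, H43.irr_charDegree_spec ψ] at h1
    exact_mod_cast h1
  have hE : ∀ ψ, ¬ p ∣ Cfsg.charDegree (E ψ).1 ∧ Over L.subtype ν.1 (E ψ).1 := by
    intro ψ
    refine ⟨?_, ?_⟩
    · rw [hdeg (E ψ) ψ.1 rfl, hp.out.dvd_mul]
      exact fun h => h.elim hidx ψ.2.1
    · have h1 : Over T.subtype ψ.1.1 (E ψ).1 := by
        rw [over_iff_classInner]
        have h2 := H25.classInner_indFun_right T ψ.1.1 (E ψ).1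
          (H26.isClassFunction_of_isCharacter (H26.irr_isCharacter (E ψ)))
        rw [show Cfsg.indFun T ψ.1.1 = (E ψ).1 from rfl, H26.classInner_irr, if_pos rfl] at h2
        show Cfsg.classInner (fun l : T => (E ψ).1 l) ψ.1.1 ≠ 0
        rw [← h2]
        exact one_ne_zero
      exact over_trans T.subtype (Subgroup.inclusion hLT) (H26.irr_isCharacter (E ψ)) ψ.1 ν h1
        ψ.2.2
  let f : {ψ : Cfsg.IrrCharacter T // ¬ p ∣ Cfsg.charDegree ψ.1 ∧
      Over (Subgroup.inclusion hLT) ν.1 ψ.1} →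
      {χ : Cfsg.IrrCharacter G // ¬ p ∣ Cfsg.charDegree χ.1 ∧ Over L.subtype ν.1 χ.1} :=
    fun ψ => ⟨E ψ, hE ψ⟩
  refine (Nat.card_eq_of_bijective f ⟨?_, ?_⟩).symm
  · intro a b h
    have h1 : Cfsg.indFun T a.1.1 = Cfsg.indFun T b.1.1 :=
      congrArg Subtype.val (congrArg Subtype.val h)
    exact Subtype.ext (Subtype.ext ((S1489.result L T ν.1 ν.2 mem_stab_iff_forall hLT a.1.1 b.1.1
      a.1.2 b.1.2 (hbridge _ a.1.2 a.2.2) (hbridge _ b.1.2 b.2.2)).2 h1))
  · rintro ⟨χ, hd, ho⟩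
    have hcon := (over_iff_classInner L.subtype ν.1 χ.1).1 ho
    obtain ⟨ψ, hψ, hind, hval⟩ := S0854.result L ν.1 ν.2 T mem_stab_iff_forall hLT χ.1 χ.2 hcon
    have ho' : Over (Subgroup.inclusion hLT) ν.1 ψ := by
      rw [over_iff_classInner]
      exact fun h0 => hcon (hval.symm.trans h0)
    have hd' : ¬ p ∣ Cfsg.charDegree ψ := fun h => hd (by
      rw [hdeg χ ⟨ψ, hψ⟩ hind]; exact h.mul_left _)
    exact ⟨⟨⟨ψ, hψ⟩, hd', ho'⟩, Subtype.ext (Subtype.ext hind)⟩

end Cfsg.Agent.H63.McKay
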