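import Cfsg.Agent.H63.McKay.Cnt

/-!
# Characters over an invariant character and characters of the group of intertwiners

Given `π : Γ → G` with scalar kernel and `q : Γ → Q` with kernel the copy of `L`, the characters
over `ν` correspond to the characters of `Q` with the inverse central character.
-/

set_option autoImplicit false

open scoped ComplexConjugate

namespace Cfsg.Agent.H63.McKay

universe u v w

theorem sum_comp_hom {A : Type u} {B : Type w} [Group A] [Fintype A] [Group B] [Fintype B]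
    (f : A →* B) (hf : Function.Surjective f) (g : B → ℂ) :
    (Nat.card B : ℂ) * ∑ a : A, g (f a) = (Nat.card A : ℂ) * ∑ b : B, g b := by
  classical
  set d := (Finset.univ.filter fun a : A => f a = 1).card with hd
  have hfib : ∀ b : B, (Finset.univ.filter fun a : A => f a = b).card = d := by
    intro b
    obtain ⟨a₀, rfl⟩ := hf b
    refine Finset.card_bij' (fun a _ => a₀⁻¹ * a) (fun a _ => a₀ * a) ?_ ?_ ?_ ?_
    · intro a ha
      simp only [Finset.mem_filter, Finset.mem_univ, true_and] at ha ⊢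
      rw [map_mul, map_inv, ha, inv_mul_cancel]
    · intro a ha
      simp only [Finset.mem_filter, Finset.mem_univ, true_and] at ha ⊢
      rw [map_mul, ha, mul_one]
    · intro a _; exact mul_inv_cancel_left a₀ a
    · intro a _; exact inv_mul_cancel_left a₀ a
  have hsum : ∀ g : B → ℂ, ∑ a : A, g (f a) = (d : ℂ) * ∑ b : B, g b := by
    intro g
    rw [← Finset.sum_fiberwise' Finset.univ f g, Finset.mul_sum]
    exact Finset.sum_congr rfl fun b _ => by rw [Finset.sum_const, hfib, nsmul_eq_mul]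
  have h1 := hsum fun _ => 1
  simp only [Finset.sum_const, Finset.card_univ, nsmul_eq_mul, mul_one,
    ← Nat.card_eq_fintype_card] at h1
  rw [hsum, h1]
  ring

variable {G : Type u} [Group G] [Fintype G] {L : Type v} [Group L] [Fintype L]
  {Γ : Type u} [Group Γ] [Fintype Γ] {Q : Type u} [Group Q] [Fintype Q]

/-- Characters over `ν` and characters with a prescribed central character. -/
theorem cnt_triple {p : ℕ} [hp : Fact p.Prime] (j : L →* G) (ν : Cfsg.IrrCharacter L)
    (π : Γ →* G) (hπ : Function.Surjective π) (q : Γ →* Q) (hq : Function.Surjective q)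
    (ι : L →* Γ) (hι : Function.Injective ι) (hπι : ∀ l, π (ι l) = j l) (hker : q.ker = ι.range)
    {n : ℕ} (ρ : Representation ℂ Γ (Fin n → ℂ)) (hρ : ∀ l, ρ.character (ι l) = ν.1 l)
    (hcen : π.ker ≤ Subgroup.center Γ) (c : π.ker →* ℂˣ)
    (hc : ∀ z : π.ker, ρ z = (c z : ℂ) • (LinearMap.id : (Fin n → ℂ) →ₗ[ℂ] _))
    (hν : ¬ p ∣ Cfsg.charDegree ν.1) :
    cnt p j ν.1 = Nat.card {η : Cfsg.IrrCharacter Q //
      ¬ p ∣ Cfsg.charDegree η.1 ∧ ∀ z : π.ker, η.1 (q z) = conj (c z : ℂ) * η.1 1} := by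
  classical
  have hn1 : (n : ℂ) = ν.1 1 := by
    rw [← hρ 1, map_one, ρ.char_one, Module.finrank_fin_fun]
  have hndeg : n = Cfsg.charDegree ν.1 := by
    rw [Cfsg.charDegree, ← hn1, Complex.natCast_re, Nat.floor_natCast]
  let σ : Representation ℂ L (Fin n → ℂ) := ρ.comp ι
  haveI hσ : σ.IsIrreducible := by
    obtain ⟨m, τ, hτ, e⟩ := ν.2
    obtain ⟨f, hf⟩ := H39.exists_equiv_of_char_eq_irreducible τ σ (funext fun l => by
      rw [e]; exact hρ l)
    exact H26.isIrreducible_of_equiv (Representation.Equiv.mk f fun a => LinearMap.ext (hf a))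
  set U : Γ → ℂ := ρ.character with hU
  have hUc : Cfsg.IsCharacter Γ U := ⟨n, ρ, rfl⟩
  have hqι : ∀ l, q (ι l) = 1 := fun l => MonoidHom.mem_ker.1 (hker ▸ ⟨l, rfl⟩)
  have hLc : (Nat.card L : ℂ) ≠ 0 := Nat.cast_ne_zero.2 Nat.card_pos.ne'
  have hQc : (Nat.card Q : ℂ) ≠ 0 := Nat.cast_ne_zero.2 Nat.card_pos.ne'
  have hΓc : (Nat.card Γ : ℂ) ≠ 0 := Nat.cast_ne_zero.2 Nat.card_pos.ne'
  have hGc : (Nat.card G : ℂ) ≠ 0 := Nat.cast_ne_zero.2 Nat.card_pos.ne'
  -- the squared norm of the trace is one on average over a coset of `L`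
  have hcoset : ∀ x : Γ, ∑ l : L, U (x * ι l) * conj (U (x * ι l)) = (Nat.card L : ℂ) := by
    intro x
    rw [← H43.sum_trace_mul_trace σ (LinearMap.toMatrix' (ρ x)) (LinearMap.toMatrix' (ρ x⁻¹)) (by
      rw [← LinearMap.toMatrix'_comp, ← Module.End.mul_eq_comp, ← map_mul, mul_inv_cancel,
        map_one, Module.End.one_eq_id, LinearMap.toMatrix'_id])]
    refine Finset.sum_congr rfl fun l _ => ?_
    rw [← H26.inv_eq_conj_of_isCharacter hUc, mul_inv_rev, ← map_inv, hU]
    have htr : ∀ y : Γ, ρ.character y = (LinearMap.toMatrix' (ρ y)).trace := fun y => by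
      rw [Representation.character, LinearMap.trace_eq_matrix_trace ℂ (Pi.basisFun ℂ (Fin n)),
        LinearMap.toMatrix_eq_toMatrix']
    rw [htr, htr, map_mul ρ, map_mul ρ, Module.End.mul_eq_comp, Module.End.mul_eq_comp,
      LinearMap.toMatrix'_comp, LinearMap.toMatrix'_comp]
    rfl
  -- inner products
  have hinner : ∀ η η' : Cfsg.IrrCharacter Q,
      ∑ x : Γ, η.1 (q x) * U x * conj (η'.1 (q x) * U x) =
        if η = η' then (Nat.card Γ : ℂ) else 0 := by
    intro η η'
    set g : Q → ℂ := fun y => η.1 y * conj (η'.1 y) with hg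
    have h1 : (Nat.card L : ℂ) * ∑ x : Γ, g (q x) * (U x * conj (U x)) =
        (Nat.card L : ℂ) * ∑ x : Γ, g (q x) := by
      calc (Nat.card L : ℂ) * ∑ x : Γ, g (q x) * (U x * conj (U x))
          = ∑ l : L, ∑ x : Γ, g (q (x * ι l)) * (U (x * ι l) * conj (U (x * ι l))) := by
            have hl : ∀ l : L, ∑ x : Γ, g (q (x * ι l)) * (U (x * ι l) * conj (U (x * ι l))) =
                ∑ x : Γ, g (q x) * (U x * conj (U x)) := fun l =>
              Equiv.sum_comp (Equiv.mulRight (ι l)) fun x => g (q x) * (U x * conj (U x))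
            rw [Finset.sum_congr rfl fun l _ => hl l,
              Finset.sum_const, Finset.card_univ, nsmul_eq_mul, Nat.card_eq_fintype_card]
        _ = _ := by
            rw [Finset.sum_comm, Finset.mul_sum]
            refine Finset.sum_congr rfl fun x _ => ?_
            simp only [map_mul q, hqι, mul_one]
            rw [← Finset.mul_sum, hcoset, mul_comm]
    have h2 := mul_left_cancel₀ hLc h1
    have h3 : ∑ x : Γ, η.1 (q x) * U x * conj (η'.1 (q x) * U x) = ∑ x : Γ, g (q x) := by
      rw [← h2]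
      exact Finset.sum_congr rfl fun x _ => by rw [map_mul, hg]; ring
    rw [h3]
    refine mul_left_cancel₀ hQc ?_
    rw [sum_comp_hom q hq g, hg, H43.sum_mul_conj]
    split_ifs <;> ring
  -- central elements
  have hqcen : ∀ z : π.ker, q z ∈ Subgroup.center Q := fun z => Subgroup.mem_center_iff.2 fun y => by
    obtain ⟨x, rfl⟩ := hq y
    rw [← map_mul, ← map_mul, Subgroup.mem_center_iff.1 (hcen z.2) x]
  have hUz : ∀ (x : Γ) (z : π.ker), U (x * z) = (c z : ℂ) * U x := fun x z => by
    show LinearMap.trace ℂ _ (ρ (x * z)) = _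
    rw [map_mul, hc, mul_smul_comm, map_smul, smul_eq_mul]
    rfl
  have hcc : ∀ z : π.ker, (c z : ℂ) * conj (c z : ℂ) = 1 := fun z => by
    haveI : Fintype π.ker := Fintype.ofFinite _
    exact H43.hom_mul_conj c z
  -- construction of the character of `G`
  have hmk : ∀ η : Cfsg.IrrCharacter Q,
      (∀ z : π.ker, η.1 (q z) = conj (c z : ℂ) * η.1 1) →
      ∃ χ : Cfsg.IrrCharacter G, ∀ x : Γ, χ.1 (π x) = η.1 (q x) * U x := by
    intro η hη
    have hFc : Cfsg.IsCharacter Γ (fun x => η.1 (q x) * U x) :=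
      H26.isCharacter_mul (H26.isCharacter_comp (H26.irr_isCharacter η) q) hUc
    obtain ⟨m, R, hR, eR⟩ := H26.isIrrCharacter_of_norm_one hFc (by
      rw [Cfsg.classInner, hinner, if_pos rfl, inv_mul_cancel₀ hΓc])
    haveI := hR
    have hRker : ∀ z : π.ker, R z = 1 := fun z => by
      have h := congrFun eR (z : Γ)
      have h1 := congrFun eR 1
      rw [map_one] at h1
      have hz : U z = (c z : ℂ) * U 1 := by rw [← hUz 1 z, one_mul]
      have h2 : R.character z = (Module.finrank ℂ (Fin m → ℂ) : ℂ) := by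
        rw [h, ← R.char_one, h1, hη z, hz]
        calc conj (c z : ℂ) * η.1 1 * ((c z : ℂ) * U 1)
            = ((c z : ℂ) * conj (c z : ℂ)) * (η.1 1 * U 1) := by ring
          _ = _ := by rw [hcc, one_mul]
      exact (H25.char_eq_degree_iff R (z : Γ)).1 h2
    have hwell : ∀ x y : Γ, π x = π y → R x = R y := fun x y h => by
      have hz : x⁻¹ * y ∈ π.ker := MonoidHom.mem_ker.2 (by rw [map_mul, map_inv, h, inv_mul_cancel])
      rw [show y = x * (x⁻¹ * y) from (mul_inv_cancel_left x y).symm, map_mul,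
        hRker ⟨_, hz⟩, mul_one]
    set s := Function.surjInv hπ with hs
    have hs' : ∀ g, π (s g) = g := Function.surjInv_eq hπ
    let R' : Representation ℂ G (Fin m → ℂ) :=
      { toFun := fun g => R (s g)
        map_one' := by rw [hwell (s 1) 1 (by rw [hs', map_one]), map_one]
        map_mul' := fun a b => by
          rw [← map_mul]; exact hwell _ _ (by rw [hs', map_mul, hs', hs']) }
    have hR' : ∀ x, R' (π x) = R x := fun x => hwell _ _ (hs' _)
    haveI : R'.IsIrreducible :=
      (H26.isIrreducible_iff_forall R').2 ⟨H25.nontrivial_of_isIrreducible R, fun W hW =>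
        ((H26.isIrreducible_iff_forall R).1 inferInstance).2 W fun x v hv => by
          rw [← hR' x]; exact hW _ v hv⟩
    refine ⟨⟨R'.character, ⟨m, R', inferInstance, rfl⟩⟩, fun x => ?_⟩
    show LinearMap.trace ℂ _ (R' (π x)) = _
    rw [hR' x]
    exact congrFun eR x
  choose E hE using hmk
  have hEdeg : ∀ η h, Cfsg.charDegree (E η h).1 = Cfsg.charDegree η.1 * n := fun η h => by
    have h1 := hE η h 1
    rw [map_one, map_one, show U 1 = (n : ℂ) by rw [hU, ρ.char_one, Module.finrank_fin_fun],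
      H43.irr_charDegree_spec (E η h), H43.irr_charDegree_spec η] at h1
    exact_mod_cast h1
  have hEover : ∀ η h, Over j ν.1 (E η h).1 := fun η h => by
    rw [Over, finsum_eq_sum_of_fintype]
    have hl : ∀ l, (E η h).1 (j l) * conj (ν.1 l) = η.1 1 * (ν.1 l * conj (ν.1 l)) := fun l => by
      rw [← hπι, hE, hqι, hρ]; ring
    rw [Finset.sum_congr rfl fun l _ => hl l, ← Finset.mul_sum, H43.sum_mul_conj, if_pos rfl]
    exact mul_ne_zero (H26.irr_one_ne_zero η) hLc
  have hdeg' : ∀ η h, ¬ p ∣ Cfsg.charDegree η.1 → ¬ p ∣ Cfsg.charDegree (E η h).1 := by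
    intro η h hη hd
    rw [hEdeg, hp.out.dvd_mul] at hd
    exact hd.elim hη (hndeg ▸ hν)
  let f : {η : Cfsg.IrrCharacter Q //
      ¬ p ∣ Cfsg.charDegree η.1 ∧ ∀ z : π.ker, η.1 (q z) = conj (c z : ℂ) * η.1 1} →
      {χ : Cfsg.IrrCharacter G // ¬ p ∣ Cfsg.charDegree χ.1 ∧ Over j ν.1 χ.1} :=
    fun η => ⟨E η.1 η.2.2, hdeg' _ _ η.2.1, hEover _ _⟩
  refine (Nat.card_eq_of_bijective f ⟨?_, ?_⟩).symm
  · rintro ⟨η, hd, hη⟩ ⟨η', hd', hη'⟩ h
    have hEE : E η hη = E η' hη' := congrArg Subtype.val h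
    by_contra hne
    have hne' : η ≠ η' := fun h0 => hne (Subtype.ext h0)
    have h1 := hinner η η'
    rw [if_neg hne'] at h1
    have h2 := hinner η η
    rw [if_pos rfl] at h2
    have hfeq : ∀ x, η'.1 (q x) * U x = η.1 (q x) * U x := fun x => by
      rw [← hE η hη, ← hE η' hη', hEE]
    simp only [hfeq] at h1
    exact hΓc (h2.symm.trans h1)
  · rintro ⟨χ, hdχ, hoχ⟩
    set T : Cfsg.IrrCharacter Q → ℂ := fun η =>
      ∑ x : Γ, χ.1 (π x) * conj (η.1 (q x) * U x) with hT
    have hreg : ∀ y : Q, ∑ η : Cfsg.IrrCharacter Q, η.1 1 * conj (η.1 y) =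
        if y = 1 then (Nat.card Q : ℂ) else 0 := fun y => by
      rw [H26.column_orthogonality, H26.classIndicator]
      by_cases hy : y = 1
      · subst hy
        rw [if_pos (IsConj.refl 1), if_pos rfl, mul_one,
          show Subgroup.centralizer ({1} : Set Q) = ⊤ from eq_top_iff.2 fun a _ =>
            Subgroup.mem_centralizer_iff.2 fun b hb => by
              rw [Set.mem_singleton_iff.1 hb, one_mul, mul_one],
          Subgroup.card_top]
      · rw [if_neg (fun h => hy (isConj_one_right.1 h)), if_neg hy, mul_zero]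
    have hsum : ∑ η, η.1 1 * T η ≠ 0 := by
      have h1 : ∑ η : Cfsg.IrrCharacter Q, η.1 1 * T η = (Nat.card Q : ℂ) *
          ∑ x ∈ Finset.univ.filter (fun x : Γ => q x = 1), χ.1 (π x) * conj (U x) := by
        simp only [T, Finset.mul_sum]
        rw [Finset.sum_comm, Finset.sum_filter]
        refine Finset.sum_congr rfl fun x _ => ?_
        rw [show ∑ η : Cfsg.IrrCharacter Q, η.1 1 * (χ.1 (π x) * conj (η.1 (q x) * U x)) =
            (∑ η : Cfsg.IrrCharacter Q, η.1 1 * conj (η.1 (q x))) * (χ.1 (π x) * conj (U x)) by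
          rw [Finset.sum_mul]
          exact Finset.sum_congr rfl fun η _ => by rw [map_mul]; ring, hreg]
        split_ifs <;> ring
      rw [h1]
      refine mul_ne_zero hQc ?_
      have h2 : ∑ x ∈ Finset.univ.filter (fun x : Γ => q x = 1), χ.1 (π x) * conj (U x) =
          ∑ l : L, χ.1 (j l) * conj (ν.1 l) := by
        refine (Finset.sum_bij (fun l _ => ι l) (fun l _ => by simp [hqι])
          (fun a _ b _ h => hι h) (fun x hx => ?_) (fun l _ => by rw [hπι, hρ])).symm
        have hx' : x ∈ q.ker := MonoidHom.mem_ker.2 (Finset.mem_filter.1 hx).2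
        rw [hker] at hx'
        obtain ⟨l, rfl⟩ := hx'
        exact ⟨l, Finset.mem_univ _, rfl⟩
      rw [h2, ← finsum_eq_sum_of_fintype]
      exact hoχ
    obtain ⟨η, -, hη⟩ := Finset.exists_ne_zero_of_sum_ne_zero hsum
    have hTη : T η ≠ 0 := (mul_ne_zero_iff.1 hη).2
    obtain ⟨w, hw⟩ := exists_centralHom η
    have hcond : ∀ z : π.ker, η.1 (q z) = conj (c z : ℂ) * η.1 1 := by
      intro z
      set a : ℂ := (w ⟨_, hqcen z⟩ : ℂ) with ha
      have hmul : ∀ y, η.1 (y * q z) = a * η.1 y := fun y => (hw ⟨_, hqcen z⟩).1 y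
      have key : T η = conj (a * (c z : ℂ)) * T η := by
        conv_lhs => rw [hT]
        dsimp only
        rw [← Equiv.sum_comp (Equiv.mulRight (z : Γ)), Finset.mul_sum]
        refine Finset.sum_congr rfl fun x _ => ?_
        rw [Equiv.coe_mulRight, map_mul π, MonoidHom.mem_ker.1 z.2, mul_one, map_mul q, hmul, hUz]
        simp only [map_mul]
        ring
      have h1 : a * (c z : ℂ) = 1 := by
        have h2 := mul_right_cancel₀ hTη ((one_mul _).trans key)
        have h3 := congrArg conj h2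
        rw [map_one, Complex.conj_conj] at h3
        exact h3.symm
      have h2 : a = conj (c z : ℂ) := by
        calc a = a * ((c z : ℂ) * conj (c z : ℂ)) := by rw [hcc, mul_one]
          _ = _ := by rw [← mul_assoc, h1, one_mul]
      rw [← h2]
      have h3 := hmul 1
      rwa [one_mul] at h3
    have hEχ : E η hcond = χ := by
      by_contra hne
      apply hTη
      have h1 := sum_comp_hom π hπ fun g => χ.1 g * conj ((E η hcond).1 g)
      rw [H43.sum_mul_conj, if_neg (Ne.symm hne), mul_zero] at h1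
      rw [← (mul_eq_zero.1 h1).resolve_left hGc, hT]
      exact Finset.sum_congr rfl fun x _ => by rw [hE]
    refine ⟨⟨η, fun hd => hdχ ?_, hcond⟩, Subtype.ext hEχ⟩
    show p ∣ Cfsg.charDegree χ.1
    rw [← hEχ, hEdeg]
    exact hd.mul_right _

end Cfsg.Agent.H63.McKay
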