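import Cfsg.Agent.H63.McKay.Final
import Cfsg.Agent.H63.McKay.Triple

/-!
# An invariant character below a normal `p'`-section whose product with a Sylow group is normal
-/

set_option autoImplicit false

open scoped ComplexConjugate

namespace Cfsg.Agent.H63.McKay

universe u

variable {G : Type u} [Group G]

theorem ppow_dvd_coprime {p : ℕ} [hp : Fact p.Prime] {a m : ℕ} (h : ¬ p ∣ a) :
    a.Coprime (p ^ m) :=
  ((hp.out.coprime_iff_not_dvd.2 h).symm).pow_right m

variable {p : ℕ} [hp : Fact p.Prime]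

/-- Equal counts when `K/L` has order prime to `p` and `K S` is normal. -/
theorem cnt_pprime_case [Fintype G] (L K : Subgroup G) [L.Normal] [Fintype L] [K.Normal]
    (hLK : L ≤ K) (hKL : ¬ p ∣ L.relIndex K) (S : Sylow p G)
    (hKS : (K ⊔ (S : Subgroup G)).Normal) (ν : Cfsg.IrrCharacter L)
    (hinv : ∀ g : G, Fix L ν.1 g) (hν : ¬ p ∣ Cfsg.charDegree ν.1)
    (hLN : L ≤ Subgroup.normalizer ((L ⊔ (S : Subgroup G) : Subgroup G) : Set G)) :
    cnt p L.subtype ν.1 = cnt p (Subgroup.inclusion hLN) ν.1 := by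
  classical
  set P : Subgroup G := L ⊔ (S : Subgroup G) with hP
  set N : Subgroup G := Subgroup.normalizer (P : Set G) with hN
  obtain ⟨n, σ, hσ, hchar⟩ := ν.2
  haveI := hσ
  haveI := H25.nontrivial_of_isIrreducible σ
  have hinv' : ∀ (g : G) (m : L), σ.character (H39.conjN g m) = σ.character m := fun g m => by
    rw [hchar]; exact hinv g m _ rfl
  haveI := H43.finite_interGroup σ
  haveI : Fintype (H43.interGroup σ) := Fintype.ofFinite _
  let π : H43.interGroup σ →* G := (MonoidHom.fst G _).comp (H43.interGroup σ).subtype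
  let U : H43.interGroup σ →* (Module.End ℂ (Fin n → ℂ))ˣ :=
    (MonoidHom.snd G _).comp (H43.interGroup σ).subtype
  let ι := H43.interIncl σ
  have hπ : Function.Surjective π := fun g => by
    obtain ⟨B, hB⟩ := H43.interGroup_surjective σ hinv' g
    exact ⟨⟨(g, B), hB⟩, rfl⟩
  have hπι : ∀ l, π (ι l) = L.subtype l := fun l => rfl
  have hι : Function.Injective ι := fun a b h => Subtype.ext (congrArg π h)
  have hιeq : ∀ (x : H43.interGroup σ) (m : L), x * ι m * x⁻¹ = ι (H39.conjN (π x) m) :=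
    fun x m => by
      refine Subtype.ext (Prod.ext rfl ?_)
      show U x * H39.sigmaU σ m * (U x)⁻¹ = H39.sigmaU σ (H39.conjN (π x) m)
      rw [show U x * H39.sigmaU σ m = H39.sigmaU σ (H39.conjN (π x) m) * U x from
        (H43.mem_interGroup.mp x.2).1 m, mul_inv_cancel_right]
  haveI : ι.range.Normal := ⟨by
    rintro _ ⟨m, rfl⟩ x
    exact ⟨_, (hιeq x m).symm⟩⟩
  have hscal : ∀ z : π.ker, ∃ c : ℂˣ, U z = H39.scalarU c := by
    rintro ⟨⟨⟨g, B⟩, hz⟩, hg⟩
    obtain rfl : g = 1 := hg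
    obtain ⟨c, hc⟩ := H39.exists_scalar_of_mem_interSub (B := 1) (B' := B)
      (H39.interSub σ).one_mem (H43.mem_interGroup.mp hz).1
    exact ⟨c, by rw [mul_one] at hc; exact hc⟩
  choose cf hcf using hscal
  have hcen : π.ker ≤ Subgroup.center (H43.interGroup σ) := fun z hz => by
    refine Subgroup.mem_center_iff.mpr fun x => Subtype.ext (Prod.ext ?_ ?_)
    · show π x * π z = π z * π x
      rw [show π z = 1 from hz, mul_one, one_mul]
    · show U x * U z = U z * U x
      rw [show U z = _ from hcf ⟨z, hz⟩, H39.scalarU_comm]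
  let ch : π.ker →* ℂˣ := MonoidHom.mk' cf fun a b =>
    H39.scalarU_injective (W := Fin n → ℂ) (by
      rw [map_mul, ← hcf, ← hcf, ← hcf, Subgroup.coe_mul, map_mul])
  let ρ : Representation ℂ (H43.interGroup σ) (Fin n → ℂ) := (Units.coeHom _).comp U
  have hρ : ∀ l, ρ.character (ι l) = ν.1 l := fun l => by rw [← hchar]; rfl
  have hc : ∀ z : π.ker, ρ z = (ch z : ℂ) • (LinearMap.id : (Fin n → ℂ) →ₗ[ℂ] _) := fun z => by
    show ((U z : (Module.End ℂ (Fin n → ℂ))ˣ) : Module.End ℂ (Fin n → ℂ)) = _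
    rw [hcf z, H39.scalarU_coe]
    rfl
  let q : H43.interGroup σ →* H43.interGroup σ ⧸ ι.range := QuotientGroup.mk' ι.range
  have hq : Function.Surjective q := QuotientGroup.mk'_surjective _
  have hker : q.ker = ι.range := QuotientGroup.ker_mk' _
  haveI : Fintype (H43.interGroup σ ⧸ ι.range) := Fintype.ofFinite _
  have hkerle : ∀ X : Subgroup G, L ≤ X → q.ker ≤ X.comap π := fun X hX => by
    rw [hker]
    rintro _ ⟨m, rfl⟩
    exact hX m.2
  set Zq : Subgroup (H43.interGroup σ ⧸ ι.range) := π.ker.map q with hZq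
  have hdisj : ∀ z ∈ π.ker, q z = 1 → z = 1 := by
    intro z hz h
    obtain ⟨m, rfl⟩ := (QuotientGroup.eq_one_iff z).mp h
    rw [show m = 1 from Subtype.ext (show π (ι m) = 1 from hz), map_one]
  have hqinj : Function.Injective fun z : π.ker => q z := fun a b h => Subtype.ext (by
    have h1 := hdisj _ (π.ker.mul_mem a.2 (π.ker.inv_mem b.2))
      (by rw [map_mul, map_inv, show q a = q b from h, mul_inv_cancel])
    exact mul_inv_eq_one.1 h1)
  have hZqc : Zq ≤ Subgroup.center _ := by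
    rintro _ ⟨z, hz, rfl⟩
    refine Subgroup.mem_center_iff.mpr fun y => ?_
    obtain ⟨x, rfl⟩ := hq y
    rw [← map_mul, ← map_mul, Subgroup.mem_center_iff.mp (hcen hz) x]
  haveI : Zq.Normal := ⟨fun z hz g => by
    rwa [Subgroup.mem_center_iff.1 (hZqc hz) g, mul_inv_cancel_right]⟩
  let lam : H43.interGroup σ ⧸ ι.range → ℂ :=
    Function.extend (fun z : π.ker => q z) (fun z => conj (ch z : ℂ)) 0
  have hlam : ∀ z : π.ker, lam (q z) = conj (ch z : ℂ) := fun z =>
    hqinj.extend_apply _ _ z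
  -- indices in the quotient
  have hsupker : π.ker ⊔ ι.range = L.comap π := by
    have hmap : ι.range.map π = L := by
      rw [MonoidHom.map_range, show π.comp ι = L.subtype from MonoidHom.ext fun m => rfl,
        Subgroup.range_subtype]
    rw [sup_comm, ← Subgroup.comap_map_eq, hmap]
  have hrel : ∀ X : Subgroup G, L ≤ X → Zq.relIndex ((X.comap π).map q) = L.relIndex X := by
    intro X hX
    rw [hZq, Subgroup.relIndex_map_map, sup_eq_left.mpr (hkerle X hX), hker, hsupker,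
      Subgroup.relIndex_comap, Subgroup.map_comap_eq_self_of_surjective hπ]
  have hidx : ∀ X : Subgroup G, L ≤ X → ((X.comap π).map q).index = X.index := fun X hX => by
    rw [Subgroup.index_map_eq _ hq (hkerle X hX), Subgroup.index_comap_of_surjective _ hπ]
  set Kh := (K.comap π).map q with hKh
  set Ph := (P.comap π).map q with hPh
  haveI : Kh.Normal := Subgroup.Normal.map inferInstance q hq
  have hZK : Zq ≤ Kh := Subgroup.map_mono fun z hz => by
    show π z ∈ K
    rw [show π z = 1 from hz]; exact K.one_mem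
  have hZP : Zq ≤ Ph := Subgroup.map_mono fun z hz => by
    show π z ∈ P
    rw [show π z = 1 from hz]; exact P.one_mem
  -- the normal `p`-complement of `Kh`
  haveI : Fintype Kh := Fintype.ofFinite _
  obtain ⟨P₀⟩ : Nonempty (Sylow p Kh) := inferInstance
  have hP₀Z : ∀ x ∈ (P₀ : Subgroup Kh), (x : H43.interGroup σ ⧸ ι.range) ∈ Zq := by
    intro x hx
    obtain ⟨a, ha⟩ := P₀.isPGroup' ⟨x, hx⟩
    refine mem_of_pow_eq_one hZK x.2 (n := p ^ a) ?_ ?_
    · exact congrArg (fun y : (P₀ : Subgroup Kh) => ((y : Kh) : H43.interGroup σ ⧸ ι.range)) ha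
    · rw [hrel K hLK]
      exact (ppow_dvd_coprime hKL).symm
  haveI : (P₀ : Subgroup Kh).Normal := ⟨fun z hz g => by
    have he : g * z * g⁻¹ = z := Subtype.ext (by
      rw [Subgroup.coe_mul, Subgroup.coe_mul, Subgroup.coe_inv,
        Subgroup.mem_center_iff.1 (hZqc (hP₀Z z hz)) g, mul_inv_cancel_right])
    rwa [he]⟩
  have hcopP₀ : (Nat.card (P₀ : Subgroup Kh)).Coprime (P₀ : Subgroup Kh).index := by
    obtain ⟨m, hm⟩ := IsPGroup.iff_card.1 P₀.isPGroup'
    rw [hm]
    exact (ppow_dvd_coprime P₀.not_dvd_index).symm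
  obtain ⟨Kc, hKc⟩ := Subgroup.exists_left_complement'_of_coprime hcopP₀
  set K₀ := Kc.map Kh.subtype with hK₀
  have hKccard : ¬ p ∣ Nat.card Kc := by
    rw [← hKc.index_eq_card]
    exact P₀.not_dvd_index
  have hK₀card : ¬ p ∣ Nat.card K₀ := by
    rwa [Nat.card_congr (Kc.equivMapOfInjective _ Kh.subtype_injective).toEquiv.symm]
  have hK₀le : K₀ ≤ Kh := Subgroup.map_subtype_le Kc
  have hKhsplit : ∀ v : Kh, ∃ a ∈ Kc, ∃ b ∈ (P₀ : Subgroup Kh), a * b = v := fun v => by
    have h : v ∈ ((Kc ⊔ (P₀ : Subgroup Kh) : Subgroup Kh) : Set Kh) := by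
      rw [hKc.sup_eq_top]; trivial
    rw [Subgroup.mul_normal] at h
    obtain ⟨a, ha, b, hb, e⟩ := h
    exact ⟨a, ha, b, hb, e⟩
  have hK₀p : ∀ v : Kh, ¬ p ∣ orderOf v → v ∈ Kc := by
    intro v hv
    obtain ⟨a, ha, b, hb, rfl⟩ := hKhsplit v
    have hcomm : Commute a b := Subtype.ext
      (Subgroup.mem_center_iff.1 (hZqc (hP₀Z b hb)) (a : H43.interGroup σ ⧸ ι.range))
    obtain ⟨m, hm⟩ := P₀.isPGroup' ⟨b, hb⟩
    have hbm : b ^ p ^ m = 1 := congrArg Subtype.val hm
    have hb1 : b ^ Nat.card Kc = 1 := by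
      refine eq_one_of_pows (d := orderOf (a * b)) (n := p ^ m) ?_ ?_ (ppow_dvd_coprime hv)
      · have h : (a * b) ^ (Nat.card Kc * orderOf (a * b)) = 1 := by
          rw [mul_comm, pow_mul, pow_orderOf_eq_one, one_pow]
        rw [← pow_mul]
        rw [hcomm.mul_pow, show a ^ (Nat.card Kc * orderOf (a * b)) = 1 by
          rw [pow_mul, show a ^ Nat.card Kc = 1 from
            congrArg Subtype.val (pow_card_eq_one' (x := (⟨a, ha⟩ : Kc))), one_pow],
          one_mul] at h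
        exact h
      · rw [← pow_mul, mul_comm, pow_mul, hbm, one_pow]
    have hb2 : b = 1 := eq_one_of_pows hb1 hbm (ppow_dvd_coprime hKccard)
    rw [hb2, mul_one]
    exact ha
  haveI hK₀n : K₀.Normal := ⟨by
    rintro _ ⟨w, hw, rfl⟩ g
    refine ⟨⟨_, ‹Kh.Normal›.conj_mem _ w.2 g⟩, hK₀p _ fun hd => ?_, rfl⟩
    refine hKccard (hd.trans ?_)
    refine orderOf_dvd_of_pow_eq_one (Subtype.ext ?_)
    rw [SubmonoidClass.coe_pow, conj_pow,
      show ((w : H43.interGroup σ ⧸ ι.range)) ^ Nat.card Kc = 1 from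
        congrArg (fun y : Kc => ((y : Kh) : H43.interGroup σ ⧸ ι.range))
          (pow_card_eq_one' (x := (⟨w, hw⟩ : Kc))), mul_one, mul_inv_cancel]
    rfl⟩
  -- the Sylow group
  obtain ⟨S₁⟩ : Nonempty (Sylow p Ph) := inferInstance
  set Sh₀ := (S₁ : Subgroup Ph).map Ph.subtype with hSh₀
  have hSh₀p : IsPGroup p Sh₀ := S₁.isPGroup'.map _
  have hSh₀le : Sh₀ ≤ Ph := Subgroup.map_subtype_le _
  have hrelS : ¬ p ∣ Sh₀.relIndex Ph := by
    rw [Subgroup.relIndex, hSh₀, Subgroup.subgroupOf,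
      Subgroup.comap_map_eq_self_of_injective Ph.subtype_injective]
    exact S₁.not_dvd_index
  have hPidx : ¬ p ∣ Ph.index := by
    rw [hPh, hidx P le_sup_left]
    exact fun h => S.not_dvd_index (h.trans (Subgroup.index_dvd_of_le le_sup_right))
  have hSh₀idx : ¬ p ∣ Sh₀.index := by
    rw [← Subgroup.relIndex_mul_index hSh₀le, hp.out.dvd_mul]
    rintro (h | h)
    exacts [hrelS h, hPidx h]
  let Sh : Sylow p (H43.interGroup σ ⧸ ι.range) := hSh₀p.toSylow hSh₀idx
  have hShcoe : (Sh : Subgroup (H43.interGroup σ ⧸ ι.range)) = Sh₀ := rfl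
  -- `Ph` is `Zq` times the Sylow group
  have hZSh : Zq ⊔ Sh₀ = Ph := by
    refine le_antisymm (sup_le hZP hSh₀le) (Subgroup.relIndex_eq_one.1 ?_)
    obtain ⟨m, hm⟩ := IsPGroup.iff_card.1 S.isPGroup'
    refine Nat.eq_one_of_dvd_coprimes (ppow_dvd_coprime hrelS).symm (a := p ^ m) ?_
      (Subgroup.relIndex_dvd_of_le_left _ le_sup_right)
    refine (Subgroup.relIndex_dvd_of_le_left Ph le_sup_left).trans ?_
    rw [hPh, hrel P le_sup_left, hP, sup_comm, Subgroup.relIndex_sup_right, ← hm]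
    exact Subgroup.relIndex_dvd_card _ _
  have hShn : ∀ x ∈ Ph, x ∈ Subgroup.normalizer (Sh₀ : Set (H43.interGroup σ ⧸ ι.range)) := by
    rw [← hZSh]
    intro x hx
    exact (sup_le (hZqc.trans (Subgroup.center_le_normalizer _)) Subgroup.le_normalizer) hx
  have hnorm : Subgroup.normalizer (Sh₀ : Set (H43.interGroup σ ⧸ ι.range)) =
      (N.comap π).map q := by
    have hNP : (N.comap π).map q =
        Subgroup.normalizer (Ph : Set (H43.interGroup σ ⧸ ι.range)) := by
      rw [hN, Subgroup.comap_normalizer_eq_of_surjective _ hπ, hPh]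
      conv_lhs => rw [← Subgroup.comap_map_eq_self (hkerle P le_sup_left)]
      rw [← Subgroup.comap_normalizer_eq_of_surjective _ hq,
        Subgroup.map_comap_eq_self_of_surjective hq]
    rw [hNP]
    refine le_antisymm (fun g hg => ?_) (fun g hg => ?_)
    · have hm : ∀ g' ∈ Subgroup.normalizer (Sh₀ : Set (H43.interGroup σ ⧸ ι.range)),
          ∀ x ∈ Ph, g' * x * g'⁻¹ ∈ Ph := by
        intro g' hg' x hx
        rw [← hZSh] at hx ⊢
        have hxs : x ∈ ((Zq ⊔ Sh₀ : Subgroup _) : Set (H43.interGroup σ ⧸ ι.range)) := hx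
        rw [Subgroup.normal_mul] at hxs
        obtain ⟨a, ha, b, hb, rfl⟩ := hxs
        rw [show g' * (a * b) * g'⁻¹ = (g' * a * g'⁻¹) * (g' * b * g'⁻¹) by group]
        exact Subgroup.mul_mem_sup (‹Zq.Normal›.conj_mem a ha g') (conj_mem hg' hb)
      refine Subgroup.mem_normalizer_iff.2 fun x => ⟨hm g hg x, fun hx => ?_⟩
      have := hm g⁻¹ (Subgroup.inv_mem _ hg) _ hx
      simpa [mul_assoc] using this
    · have hm : ∀ g' ∈ Subgroup.normalizer (Ph : Set (H43.interGroup σ ⧸ ι.range)),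
          ∀ x ∈ Sh₀, g' * x * g'⁻¹ ∈ Sh₀ := by
        intro g' hg' x hx
        let T : Subgroup (H43.interGroup σ ⧸ ι.range) := Sh₀.map (MulAut.conj g').toMonoidHom
        have hT : T ≤ Subgroup.normalizer (Sh₀ : Set (H43.interGroup σ ⧸ ι.range)) := by
          rintro _ ⟨y, hy, rfl⟩
          exact hShn _ (conj_mem hg' (hSh₀le hy))
        have h := Sh.3 (hSh₀p.to_sup_of_normal_left' (hSh₀p.map _) hT) le_sup_left
        have hxT : g' * x * g'⁻¹ ∈ T := ⟨x, hx, rfl⟩
        rw [← hShcoe, ← h]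
        exact Subgroup.mem_sup_right hxT
      refine Subgroup.mem_normalizer_iff.2 fun x => ⟨hm g hg x, fun hx => ?_⟩
      have := hm g⁻¹ (Subgroup.inv_mem _ hg) _ hx
      simpa [mul_assoc] using this
  -- `K₀ ⊔ Sh` is normal and contains `Zq`
  have hKhle : Kh ≤ K₀ ⊔ Sh₀ := by
    intro v hv
    obtain ⟨a, ha, b, hb, e⟩ := hKhsplit ⟨v, hv⟩
    have hv' : (a : H43.interGroup σ ⧸ ι.range) * b = v := congrArg Subtype.val e
    rw [← hv']
    refine Subgroup.mul_mem_sup (Subgroup.mem_map_of_mem _ ha) ?_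
    have hbP : IsPGroup p ((P₀ : Subgroup Kh).map Kh.subtype) := P₀.isPGroup'.map _
    have hle : (P₀ : Subgroup Kh).map Kh.subtype ≤
        Subgroup.normalizer (Sh₀ : Set (H43.interGroup σ ⧸ ι.range)) := by
      rintro _ ⟨y, hy, rfl⟩
      exact Subgroup.center_le_normalizer _ (hZqc (hP₀Z y hy))
    have h := Sh.3 (hSh₀p.to_sup_of_normal_left' hbP hle) le_sup_left
    rw [← hShcoe, ← h]
    exact Subgroup.mem_sup_right (Subgroup.mem_map_of_mem _ hb)
  have hMh : K₀ ⊔ Sh₀ = ((K ⊔ (S : Subgroup G)).comap π).map q := by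
    rw [show K ⊔ (S : Subgroup G) = K ⊔ P by rw [hP, ← sup_assoc, sup_eq_left.2 hLK],
      ← Subgroup.comap_sup_eq π K P hπ, Subgroup.map_sup, ← hKh, ← hPh]
    refine le_antisymm (sup_le_sup hK₀le hSh₀le) (sup_le hKhle ?_)
    rw [← hZSh]
    exact sup_le (hZK.trans hKhle) le_sup_right
  have hMn : (K₀ ⊔ (Sh : Subgroup (H43.interGroup σ ⧸ ι.range))).Normal := by
    rw [hShcoe, hMh]
    haveI := hKS
    exact Subgroup.Normal.map inferInstance q hq
  have hfinal := count_final K₀ hK₀card Sh hMn Zq hZqc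
    (by rw [hShcoe]; exact hZK.trans hKhle) lam
  -- the count for `G`
  rw [cnt_triple L.subtype ν π hπ q hq ι hι hπι hker ρ hρ hcen ch hc hν]
  have hG : Nat.card {η : Cfsg.IrrCharacter (H43.interGroup σ ⧸ ι.range) //
      ¬ p ∣ Cfsg.charDegree η.1 ∧ ∀ z : π.ker, η.1 (q z) = conj (ch z : ℂ) * η.1 1} =
      Nat.card {η : Cfsg.IrrCharacter (H43.interGroup σ ⧸ ι.range) //
        ¬ p ∣ Cfsg.charDegree η.1 ∧ ∀ w ∈ Zq, η.1 w = lam w * η.1 1} := by
    refine Nat.card_congr (Equiv.subtypeEquivRight fun η => and_congr Iff.rfl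
      ⟨fun h w hw => ?_, fun h z => ?_⟩)
    · obtain ⟨z, hz, rfl⟩ := hw
      have := h ⟨z, hz⟩
      rwa [← hlam] at this
    · rw [← hlam]
      exact h _ (Subgroup.mem_map_of_mem _ z.2)
  rw [hG, hfinal]
  -- the count for the normaliser
  haveI : Fintype N := Fintype.ofFinite _
  let ΓN : Subgroup (H43.interGroup σ) := N.comap π
  haveI : Fintype ΓN := Fintype.ofFinite _
  let πN : ΓN →* N := π.subgroupComap N
  have hπN : Function.Surjective πN := fun g => by
    obtain ⟨x, hx⟩ := hπ g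
    exact ⟨⟨x, show π x ∈ N from hx ▸ g.2⟩, Subtype.ext hx⟩
  have hqmem : ∀ x : ΓN, q x ∈ Subgroup.normalizer
      ((Sh : Subgroup (H43.interGroup σ ⧸ ι.range)) : Set (H43.interGroup σ ⧸ ι.range)) :=
    fun x => by
      rw [hShcoe, hnorm]
      exact Subgroup.mem_map_of_mem _ x.2
  let qN := (q.comp ΓN.subtype).codRestrict _ hqmem
  have hqN : Function.Surjective qN := fun y => by
    have hy : (y : H43.interGroup σ ⧸ ι.range) ∈ (N.comap π).map q := hnorm ▸ y.2
    obtain ⟨x, hx, e⟩ := hy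
    exact ⟨⟨x, hx⟩, Subtype.ext e⟩
  let ιN : L →* ΓN := ι.codRestrict ΓN fun l => hLN l.2
  have hιN : Function.Injective ιN := fun a b h => hι (congrArg Subtype.val h)
  have hkerN : qN.ker = ιN.range := by
    ext x
    constructor
    · intro hx
      have h1 : (x : H43.interGroup σ) ∈ q.ker :=
        MonoidHom.mem_ker.2 (congrArg Subtype.val (MonoidHom.mem_ker.1 hx))
      rw [hker] at h1
      obtain ⟨l, hl⟩ := h1
      exact ⟨l, Subtype.ext hl⟩
    · rintro ⟨l, rfl⟩
      have h1 : ι l ∈ q.ker := by rw [hker]; exact ⟨l, rfl⟩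
      exact MonoidHom.mem_ker.2 (Subtype.ext (MonoidHom.mem_ker.1 h1))
  let incl : πN.ker →* π.ker := (ΓN.subtype.comp πN.ker.subtype).codRestrict π.ker fun z =>
    MonoidHom.mem_ker.2 (congrArg Subtype.val (MonoidHom.mem_ker.1 z.2))
  rw [cnt_triple (Subgroup.inclusion hLN) ν πN hπN qN hqN ιN hιN (fun l => Subtype.ext rfl)
    hkerN (ρ.comp ΓN.subtype) hρ
    (fun z hz => Subgroup.mem_center_iff.2 fun x => Subtype.ext
      (Subgroup.mem_center_iff.1 (hcen (incl ⟨z, hz⟩).2) (x : H43.interGroup σ)))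
    (ch.comp incl) (fun z => hc (incl z)) hν]
  refine Nat.card_congr (Equiv.subtypeEquivRight fun η => and_congr Iff.rfl
    ⟨fun h z => ?_, fun h w hw => ?_⟩)
  · rw [MonoidHom.comp_apply, ← hlam]
    exact h (qN z) (Subgroup.mem_map_of_mem _ (incl z).2)
  · obtain ⟨z, hz, e⟩ := hw
    have hzN : z ∈ ΓN := by
      show π z ∈ N
      rw [show π z = 1 from hz]; exact N.one_mem
    have hz' : (⟨z, hzN⟩ : ΓN) ∈ πN.ker := MonoidHom.mem_ker.2 (Subtype.ext hz)
    have h1 := h ⟨_, hz'⟩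
    rw [MonoidHom.comp_apply, ← hlam, show qN ⟨z, hzN⟩ = w from Subtype.ext e] at h1
    rw [← e]
    exact h1

end Cfsg.Agent.H63.McKay
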