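import Cfsg.Agent.H63.McKay.Split
import Cfsg.Agent.H63.McKay.PPrimeCase
import Cfsg.Agent.H35.Constrained

/-!
# The relative count for `p`-solvable groups
-/

set_option autoImplicit false

open scoped ComplexConjugate

namespace Cfsg.Agent.H63.McKay

universe u

variable {G : Type u} [Group G]

theorem cnt_inclusion_congr (p : ℕ) {L A A' : Subgroup G} (h : A = A') (hA : L ≤ A) (hA' : L ≤ A')
    (ν : L → ℂ) : cnt p (Subgroup.inclusion hA) ν = cnt p (Subgroup.inclusion hA') ν :=
  cnt_congr p (MulEquiv.subgroupCongr h) _ _ (fun l => Subtype.ext rfl) ν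

theorem cnt_top (p : ℕ) {L A : Subgroup G} (h : A = ⊤) (hA : L ≤ A) (ν : L → ℂ) :
    cnt p (Subgroup.inclusion hA) ν = cnt p L.subtype ν :=
  cnt_congr p ((MulEquiv.subgroupCongr h).trans Subgroup.topEquiv) _ _ (fun l => rfl) ν

/-- Counting in a subgroup of a subgroup. -/
theorem cnt_subgroupOf (p : ℕ) {L A B : Subgroup G} (hLA : L ≤ A) (hAB : A ≤ B)
    (hLB : L ≤ B) (h' : L.subgroupOf B ≤ A.subgroupOf B) (ν : Cfsg.IrrCharacter L) :
    cnt p (Subgroup.inclusion h') (H43.irrCongr (Subgroup.subgroupOfEquivOfLe hLB) ν).1 =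
      cnt p (Subgroup.inclusion hLA) ν.1 := by
  rw [cnt_congr_left p (Subgroup.subgroupOfEquivOfLe hLB) (Subgroup.inclusion hLA)
    ((Subgroup.inclusion hLA).comp (Subgroup.subgroupOfEquivOfLe hLB).toMonoidHom)
    (fun l => rfl) ν.1 (H43.irrCongr (Subgroup.subgroupOfEquivOfLe hLB) ν).1 (fun l => rfl)]
  exact cnt_congr p (Subgroup.subgroupOfEquivOfLe hAB) _ _ (fun l => Subtype.ext rfl) _

/-- The subgroup of a subgroup as the whole group. -/
theorem cnt_self (p : ℕ) {L B : Subgroup G} (hLB : L ≤ B) (ν : Cfsg.IrrCharacter L) :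
    cnt p (L.subgroupOf B).subtype (H43.irrCongr (Subgroup.subgroupOfEquivOfLe hLB) ν).1 =
      cnt p (Subgroup.inclusion hLB) ν.1 :=
  (cnt_congr_left p (Subgroup.subgroupOfEquivOfLe hLB) (Subgroup.inclusion hLB)
    (L.subgroupOf B).subtype (fun l => Subtype.ext rfl) ν.1 _ (fun l => rfl)).symm

variable {p : ℕ} [hp : Fact p.Prime]

/-- A normal subgroup strictly above `L` with section of `p`-power or prime-to-`p` order. -/
theorem exists_section (h : Cfsg.IsPSolvable p G) (L : Subgroup G) [L.Normal] (hL : L ≠ ⊤) :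
    ∃ K : Subgroup G, K.Normal ∧ L < K ∧
      ((∃ m, L.relIndex K = p ^ m) ∨ ¬ p ∣ L.relIndex K) := by
  classical
  obtain ⟨n, H, h0, hn, hmono, hnor, hstep⟩ := h
  have hex : ∃ i : Fin n, H i.castSucc ≤ L ∧ ¬ H i.succ ≤ L := by
    by_contra hcon
    push Not at hcon
    have : ∀ i : Fin (n + 1), H i ≤ L := by
      intro i
      induction i using Fin.induction with
      | zero => rw [h0]; exact bot_le
      | succ i ih => exact hcon i ih
    exact hL (top_le_iff.1 (hn ▸ this (Fin.last n)))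
  obtain ⟨i, hi0, hi1⟩ := hex
  haveI := hnor i.succ
  refine ⟨L ⊔ H i.succ, inferInstance, lt_of_le_of_ne le_sup_left fun e =>
    hi1 (e ▸ le_sup_right), ?_⟩
  have hd : L.relIndex (L ⊔ H i.succ) ∣ (H i.castSucc).relIndex (H i.succ) := by
    rw [sup_comm, Subgroup.relIndex_sup_right]
    exact Subgroup.relIndex_dvd_of_le_left _ hi0
  rcases hstep i with ⟨m, hm⟩ | hc
  · obtain ⟨j, -, hj⟩ := (Nat.dvd_prime_pow hp.out).1 (hm ▸ hd)
    exact Or.inl ⟨j, hj⟩
  · exact Or.inr fun hpd => hp.out.coprime_iff_not_dvd.1 hc.symm (hpd.trans hd)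

theorem relIndex_dvd_index [Finite G] (P K : Subgroup G) [K.Normal] : P.relIndex K ∣ P.index := by
  have h1 : P.relIndex K * K.index = (P ⊓ K).index := by
    rw [← Subgroup.inf_relIndex_right, Subgroup.relIndex_mul_index inf_le_right]
  have h2 : K.relIndex P * P.index = (P ⊓ K).index := by
    rw [← Subgroup.inf_relIndex_right K P, inf_comm, Subgroup.relIndex_mul_index inf_le_left]
  have h3 : K.relIndex P * (P ⊔ K).index = K.index := by
    rw [← Subgroup.relIndex_sup_right, Subgroup.relIndex_mul_index le_sup_right]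
  refine Dvd.intro (P ⊔ K).index (Nat.eq_of_mul_eq_mul_left (n := K.relIndex P) ?_ ?_)
  · exact Nat.pos_of_ne_zero Subgroup.index_ne_zero_of_finite
  · rw [h2, ← h1, ← h3]; ring

theorem outer : ∀ (n m : ℕ) (G : Type u) [Group G] [Fintype G], Nat.card G = n →
    ∀ (L : Subgroup G) [L.Normal] [Fintype L], L.index = m → Cfsg.IsPSolvable p G →
    ∀ (S : Sylow p G) (ν : Cfsg.IrrCharacter L), (∀ s ∈ S, Fix L ν.1 s) →
    ∀ (hLN : L ≤ Subgroup.normalizer ((L ⊔ (S : Subgroup G) : Subgroup G) : Set G)),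
      cnt p L.subtype ν.1 = cnt p (Subgroup.inclusion hLN) ν.1 := by
  intro n
  induction n using Nat.strong_induction_on with
  | _ n IHn =>
  intro m
  induction m using Nat.strong_induction_on with
  | _ m IHm =>
  intro G _ _ hcard L _ _ hm hsol S ν hS hLN
  classical
  set P : Subgroup G := L ⊔ (S : Subgroup G) with hP
  set N : Subgroup G := Subgroup.normalizer (P : Set G) with hN
  haveI : Fintype N := Fintype.ofFinite _
  have hPN : P ≤ N := Subgroup.le_normalizer
  have hSN : (S : Subgroup G) ≤ N := le_sup_right.trans hPN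
  haveI : Fintype (L.subgroupOf N) := Fintype.ofFinite _
  set νN : Cfsg.IrrCharacter (L.subgroupOf N) :=
    H43.irrCongr (Subgroup.subgroupOfEquivOfLe hLN) ν with hνN
  -- a proper subgroup containing `P`
  have hrec : ∀ (B : Subgroup G) (hPB : P ≤ B), B ≠ ⊤ →
      cnt p (Subgroup.inclusion (le_sup_left.trans hPB : L ≤ B)) ν.1 =
        cnt p (Subgroup.inclusion (le_inf hLN (le_sup_left.trans hPB) : L ≤ N ⊓ B)) ν.1 := by
    intro B hPB hB
    haveI : Fintype B := Fintype.ofFinite _
    haveI : Fintype (L.subgroupOf B) := Fintype.ofFinite _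
    have hLB : L ≤ B := le_sup_left.trans hPB
    have hSB : (S : Subgroup G) ≤ B := le_sup_right.trans hPB
    have hlt : Nat.card B < n := by
      rw [← hcard]
      exact lt_of_le_of_ne (Subgroup.card_le_card_group B)
        fun e => hB (Subgroup.eq_top_of_card_eq B e)
    have hnorm : Subgroup.normalizer ((L.subgroupOf B ⊔ ((S.subtype hSB : Sylow p B) : Subgroup B) :
        Subgroup B) : Set B) = (N ⊓ B).subgroupOf B := by
      rw [Sylow.coe_subtype, ← Subgroup.subgroupOf_sup hLB hSB, ← hP,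
        ← Subgroup.subgroupOf_normalizer_eq hPB, Subgroup.inf_subgroupOf_right]
    have h := IHn _ hlt _ B rfl (L.subgroupOf B) rfl (H35.isPSolvable_subgroup hsol B)
      (S.subtype hSB) (H43.irrCongr (Subgroup.subgroupOfEquivOfLe hLB) ν)
      (fun s hs k l hkl => hS (s : G) hs _ _ (congrArg Subtype.val hkl))
      (le_sup_left.trans Subgroup.le_normalizer)
    rw [cnt_self] at h
    rw [h, cnt_inclusion_congr p hnorm _ (fun x hx => ⟨hLN hx, x.2⟩)]
    exact cnt_subgroupOf p _ inf_le_right hLB _ ν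
  by_cases hν : p ∣ Cfsg.charDegree ν.1
  · rw [cnt_eq_zero_of_dvd p L ν hν, ← cnt_self p hLN ν,
      cnt_eq_zero_of_dvd p (L.subgroupOf N) _ (by rw [H43.charDegree_irrCongr]; exact hν)]
  by_cases hT : stab L ν ≠ ⊤
  · set T := stab L ν with hTdef
    have hST : (S : Subgroup G) ≤ T := fun s hs => mem_stab.2 (fix_iff.1 (hS s hs))
    have hPT : P ≤ T := sup_le (le_stab L ν) hST
    have hidx : ¬ p ∣ T.index := fun h =>
      S.not_dvd_index (h.trans (Subgroup.index_dvd_of_le hST))
    rw [cnt_inertia L ν hidx, hrec T hPT hT, ← cnt_self p hLN ν]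
    have hstabN : stab (L.subgroupOf N) νN = T.subgroupOf N := by
      ext g
      rw [mem_stab, Subgroup.mem_subgroupOf, hTdef, mem_stab, ← fix_iff, ← fix_iff]
      refine ⟨fun h k l hkl => ?_, fun h k l hkl => h _ _ (congrArg Subtype.val hkl)⟩
      have := h ((Subgroup.subgroupOfEquivOfLe hLN).symm k)
        ((Subgroup.subgroupOfEquivOfLe hLN).symm l) (Subtype.ext hkl)
      simpa [hνN, H43.irrCongr_apply] using this
    have hidxN : ¬ p ∣ (stab (L.subgroupOf N) νN).index := fun h => by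
      rw [hstabN] at h
      refine (S.subtype hSN).not_dvd_index (h.trans (Subgroup.index_dvd_of_le ?_))
      rw [Sylow.coe_subtype]
      exact fun x hx => hST hx
    rw [cnt_inertia (L.subgroupOf N) νN hidxN,
      cnt_inclusion_congr p (hstabN.trans (Subgroup.inf_subgroupOf_left T N).symm) _
        (fun x hx => ⟨x.2, le_stab L ν hx⟩)]
    exact (cnt_subgroupOf p (le_inf hLN (le_stab L ν)) inf_le_left hLN _ ν).symm
  rw [not_not] at hT
  have hinv : ∀ g : G, Fix L ν.1 g := fun g => fix_iff.2 (mem_stab.1 (hT ▸ Subgroup.mem_top g))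
  by_cases hNtop : N = ⊤
  · exact (cnt_top p hNtop hLN ν.1).symm
  have hLtop : L ≠ ⊤ := fun e => hNtop (eq_top_iff.2 (e ▸ hLN))
  obtain ⟨K, hKn, hLK, hKcase⟩ := exists_section hsol L hLtop
  haveI := hKn
  haveI : Fintype K := Fintype.ofFinite _
  set N' : Subgroup G :=
    Subgroup.normalizer ((K ⊔ (S : Subgroup G) : Subgroup G) : Set G) with hN'
  have hKP : K ⊔ (S : Subgroup G) = P ⊔ K := by
    rw [hP, sup_comm L, sup_assoc, sup_eq_right.2 hLK.le, sup_comm]
  have hNN' : N ≤ N' := by
    rw [hN', hKP]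
    exact Subgroup.normalizer_le_normalizer_sup_normal
  have hKN' : K ≤ N' := le_sup_left.trans Subgroup.le_normalizer
  have hnormS : Subgroup.normalizer ((S : Subgroup G) : Set G) ≤ N' := by
    rw [hN', sup_comm]
    exact Subgroup.normalizer_le_normalizer_sup_normal
  have hidxK : K.index < m := by
    rw [← hm]
    exact Subgroup.index_strictAnti hLK
  have hsplit : cnt p L.subtype ν.1 = cnt p (Subgroup.inclusion (hLK.le.trans hKN')) ν.1 :=
    cnt_split L K hLK.le S N' hKN' hnormS ν hinv fun θ hθ =>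
      IHm _ hidxK G hcard K rfl hsol S θ hθ hKN'
  by_cases hN'top : N' = ⊤
  · rcases hKcase with ⟨j, hj⟩ | hK
    · exfalso
      apply hNtop
      have hKleP : K ≤ P := by
        rw [← Subgroup.relIndex_eq_one]
        obtain hd := Subgroup.relIndex_dvd_of_le_left K (le_sup_left : L ≤ P)
        rw [hj] at hd
        have hPn : ¬ p ∣ P.index := fun h =>
          S.not_dvd_index (h.trans (Subgroup.index_dvd_of_le le_sup_right))
        refine Nat.eq_one_of_dvd_coprimes (ppow_dvd_coprime hPn).symm hd ?_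
        exact relIndex_dvd_index P K
      have hPK : P ⊔ K = P := sup_eq_left.2 hKleP
      rw [eq_top_iff, ← hN'top, hN', hKP, hPK]
    · have hKS : (K ⊔ (S : Subgroup G)).Normal := Subgroup.normalizer_eq_top_iff.1 hN'top
      exact cnt_pprime_case L K hLK.le hK S hKS ν hinv hν hLN
  · rw [hsplit, hrec N' (hPN.trans hNN') hN'top]
    exact cnt_inclusion_congr p (inf_eq_left.2 hNN') _ hLN ν.1

end Cfsg.Agent.H63.McKay
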