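import Cfsg.Agent.H63.McKay.Inertia

/-!
# Splitting the count along the constituents on a larger normal subgroup
-/

set_option autoImplicit false

open scoped ComplexConjugate Pointwise

namespace Cfsg.Agent.H63.McKay

universe u

variable {G : Type u} [Group G] [Fintype G]

/-- The `S`-invariant constituents of `χ` on `K`. -/
def invConst (K S : Subgroup G) (χ : G → ℂ) : Set (Cfsg.IrrCharacter K) :=
  {θ | (∀ s ∈ S, Fix K θ.1 s) ∧ Over K.subtype θ.1 χ}

/-- The orbit under the normaliser of `S`. -/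
def normOrbit (K S : Subgroup G) [K.Normal] (θ : Cfsg.IrrCharacter K) :
    Set (Cfsg.IrrCharacter K) :=
  {θ' | ∃ n ∈ Subgroup.normalizer (S : Set G), θ' = H43.irrConj K n θ}

theorem mem_normOrbit_self (K S : Subgroup G) [K.Normal] (θ : Cfsg.IrrCharacter K) :
    θ ∈ normOrbit K S θ :=
  ⟨1, one_mem _, Subtype.ext (funext fun n => by simp [H43.irrConj_apply])⟩

variable {p : ℕ} [hp : Fact p.Prime]

theorem invConst_nonempty (K : Subgroup G) [K.Normal] [Fintype K] (S : Sylow p G)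
    (χ : Cfsg.IrrCharacter G) (hχ : ¬ p ∣ Cfsg.charDegree χ.1) :
    (invConst K (S : Subgroup G) χ.1).Nonempty := by
  classical
  obtain ⟨θ, hθ⟩ := H43.exists_restrMult_ne_zero K χ
  have ho : Over K.subtype θ.1 χ.1 := (over_iff _ θ (H26.irr_isCharacter χ)).2 hθ
  set T := stab K θ with hT
  have hidx : ¬ p ∣ T.index := fun h => hχ (h.trans (index_stab_dvd K θ χ ho))
  obtain ⟨R⟩ : Nonempty (Sylow p T) := inferInstance
  have hR : ¬ p ∣ ((R : Subgroup T).map T.subtype).index := by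
    rw [Subgroup.index_map, Subgroup.ker_subtype, sup_bot_eq, Subgroup.range_subtype,
      hp.out.dvd_mul]
    exact fun h => h.elim R.not_dvd_index hidx
  let R' : Sylow p G := (R.isPGroup'.map T.subtype).toSylow hR
  obtain ⟨x, hx⟩ := MulAction.exists_smul_eq G S R'
  refine ⟨H43.irrConj K x θ, fun s hs => fix_iff.2 ?_, ?_⟩
  · have hmem : x * s * x⁻¹ ∈ T := by
      have h1 : x * s * x⁻¹ ∈ (R' : Subgroup G) := by
        rw [← hx, Sylow.coe_subgroup_smul]
        exact ⟨s, hs, by simp⟩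
      exact Subgroup.map_subtype_le _ h1
    rw [H43.irrConj_irrConj, show x * s = (x * s * x⁻¹) * x by group, ← H43.irrConj_irrConj,
      mem_stab.1 hmem]
  · rw [over_iff _ _ (H26.irr_isCharacter χ)]
    show H43.restrMult K χ (H43.irrConj K x θ) ≠ 0
    rwa [H43.restrMult_irrConj]

theorem invConst_eq_normOrbit (K : Subgroup G) [K.Normal] [Fintype K] (S : Sylow p G)
    (χ : Cfsg.IrrCharacter G) (θ : Cfsg.IrrCharacter K)
    (hθ : θ ∈ invConst K (S : Subgroup G) χ.1) :
    invConst K (S : Subgroup G) χ.1 = normOrbit K (S : Subgroup G) θ := by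
  classical
  obtain ⟨hS, ho⟩ := hθ
  have hST : (S : Subgroup G) ≤ stab K θ := fun s hs => mem_stab.2 (fix_iff.1 (hS s hs))
  refine Set.ext fun θ' => ⟨?_, ?_⟩
  · rintro ⟨hS', ho'⟩
    rw [over_iff _ _ (H26.irr_isCharacter χ)] at ho ho'
    obtain ⟨x, rfl⟩ := H43.exists_irrConj_of_restrMult_ne_zero K χ ho ho'
    have hST' : ((x • S : Sylow p G) : Subgroup G) ≤ stab K θ := by
      rw [Sylow.coe_subgroup_smul]
      rintro _ ⟨s, hs, rfl⟩
      show x * s * x⁻¹ ∈ stab K θ
      have h := fix_iff.1 (hS' s hs)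
      rw [H43.irrConj_irrConj] at h
      rw [mem_stab]
      have h2 := congrArg (H43.irrConj K x⁻¹) h
      rw [H43.irrConj_irrConj, H43.irrConj_irrConj, mul_inv_cancel] at h2
      rw [h2]
      exact Subtype.ext (funext fun n => by simp [H43.irrConj_apply])
    obtain ⟨t, ht⟩ := MulAction.exists_smul_eq (stab K θ) (S.subtype hST)
      ((x • S).subtype hST')
    rw [Sylow.smul_subtype] at ht
    have htS : (t : G) • S = x • S := Sylow.subtype_injective ht
    refine ⟨(t : G)⁻¹ * x, Sylow.smul_eq_iff_mem_normalizer.1 (by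
      rw [mul_smul, ← htS, inv_smul_smul]), ?_⟩
    conv_lhs => rw [show x = (t : G) * ((t : G)⁻¹ * x) by group, ← H43.irrConj_irrConj,
      mem_stab.1 t.2]
  · rintro ⟨n, hn, rfl⟩
    refine ⟨fun s hs => fix_iff.2 ?_, ?_⟩
    · rw [H43.irrConj_irrConj, show n * s = (n * s * n⁻¹) * n by group, ← H43.irrConj_irrConj,
        mem_stab.1 (hST (conj_mem hn hs))]
    · rw [over_iff _ _ (H26.irr_isCharacter χ)] at ho ⊢
      show H43.restrMult K χ (H43.irrConj K n θ) ≠ 0
      rwa [H43.restrMult_irrConj]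

theorem not_dvd_of_mem_invConst (K : Subgroup G) [K.Normal] [Fintype K] (S : Subgroup G)
    (χ : Cfsg.IrrCharacter G) (hχ : ¬ p ∣ Cfsg.charDegree χ.1) (θ : Cfsg.IrrCharacter K)
    (hθ : θ ∈ invConst K S χ.1) : ¬ p ∣ Cfsg.charDegree θ.1 := fun h =>
  hχ (h.trans (dvd_of_over K θ χ hθ.2))

theorem over_of_mem_invConst (L K : Subgroup G) [L.Normal] [Fintype L] [K.Normal] [Fintype K]
    (hLK : L ≤ K) (S : Subgroup G) (ν : Cfsg.IrrCharacter L) (hinv : ∀ g : G, Fix L ν.1 g)
    (χ : Cfsg.IrrCharacter G) (hχν : Over L.subtype ν.1 χ.1) (θ : Cfsg.IrrCharacter K)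
    (hθ : θ ∈ invConst K S χ.1) : Over (Subgroup.inclusion hLK) ν.1 θ.1 := by
  classical
  let j : L →* K := Subgroup.inclusion hLK
  have hcj : Cfsg.IsCharacter L (fun l => θ.1 (j l)) :=
    H26.isCharacter_comp (H26.irr_isCharacter θ) j
  have hex : ∃ φ, H43.mult (fun l => θ.1 (j l)) φ ≠ 0 := by
    by_contra h
    push Not at h
    have h1 := H43.apply_one_eq_sum_mult hcj
    simp only [h, Nat.cast_zero, zero_mul, Finset.sum_const_zero, map_one] at h1
    exact H26.irr_one_ne_zero θ h1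
  obtain ⟨φ, hφ⟩ := hex
  have h2 := over_trans K.subtype j (H26.irr_isCharacter χ) θ φ hθ.2
    ((over_iff _ _ (H26.irr_isCharacter θ)).2 hφ)
  have h3 : H43.restrMult L χ φ ≠ 0 := (over_iff L.subtype φ (H26.irr_isCharacter χ)).1 h2
  have h4 : H43.restrMult L χ ν ≠ 0 := (over_iff L.subtype ν (H26.irr_isCharacter χ)).1 hχν
  obtain ⟨x, rfl⟩ := H43.exists_irrConj_of_restrMult_ne_zero L χ h4 h3
  rw [fix_iff.1 (hinv x)] at hφ
  exact (over_iff _ _ (H26.irr_isCharacter θ)).2 hφ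

/-- The fibre over the orbit of `θ` counts the characters over `θ`. -/
theorem card_fibre (L K : Subgroup G) [L.Normal] [Fintype L] [K.Normal] [Fintype K]
    (hLK : L ≤ K) (S : Sylow p G) (ν : Cfsg.IrrCharacter L) (θ : Cfsg.IrrCharacter K)
    (hS : ∀ s ∈ S, Fix K θ.1 s) (hθν : Over (Subgroup.inclusion hLK) ν.1 θ.1) :
    Nat.card {a : {χ : Cfsg.IrrCharacter G // ¬ p ∣ Cfsg.charDegree χ.1 ∧ Over L.subtype ν.1 χ.1}
        // invConst K (S : Subgroup G) a.1.1 = normOrbit K (S : Subgroup G) θ} =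
      cnt p K.subtype θ.1 := by
  refine Nat.card_congr ((Equiv.subtypeSubtypeEquivSubtypeInter
    (fun χ : Cfsg.IrrCharacter G => ¬ p ∣ Cfsg.charDegree χ.1 ∧ Over L.subtype ν.1 χ.1)
    (fun χ : Cfsg.IrrCharacter G =>
      invConst K (S : Subgroup G) χ.1 = normOrbit K (S : Subgroup G) θ)).trans
    (Equiv.subtypeEquivRight fun χ => ⟨?_, ?_⟩))
  · rintro ⟨⟨hd, -⟩, he⟩
    have h : θ ∈ invConst K (S : Subgroup G) χ.1 := by
      rw [he]; exact mem_normOrbit_self K (S : Subgroup G) θ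
    exact ⟨hd, h.2⟩
  · rintro ⟨hd, ho⟩
    exact ⟨⟨hd, over_trans K.subtype (Subgroup.inclusion hLK) (H26.irr_isCharacter χ) θ ν ho hθν⟩,
      invConst_eq_normOrbit K S χ θ ⟨hS, ho⟩⟩

theorem card_eq_of_fibres {α β Q : Type*} [Finite α] [Finite β] (f : α → Q) (g : β → Q)
    (h : ∀ q, Nat.card {a // f a = q} = Nat.card {b // g b = q}) : Nat.card α = Nat.card β := by
  classical
  have e : ∀ q, {a // f a = q} ≃ {b // g b = q} := fun q => Classical.choice
    ((Finite.card_eq).1 (h q))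
  exact Nat.card_congr ((Equiv.sigmaFiberEquiv f).symm.trans
    ((Equiv.sigmaCongrRight e).trans (Equiv.sigmaFiberEquiv g)))

/-- If the counts agree over every invariant character of `K`, they agree over `ν`. -/
theorem cnt_split (L K : Subgroup G) [L.Normal] [Fintype L] [K.Normal] [Fintype K] (hLK : L ≤ K)
    (S : Sylow p G) (U : Subgroup G) (hKU : K ≤ U)
    (hNU : Subgroup.normalizer ((S : Subgroup G) : Set G) ≤ U)
    (ν : Cfsg.IrrCharacter L) (hinv : ∀ g : G, Fix L ν.1 g)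
    (IH : ∀ θ : Cfsg.IrrCharacter K, (∀ s ∈ S, Fix K θ.1 s) →
      cnt p K.subtype θ.1 = cnt p (Subgroup.inclusion hKU) θ.1) :
    cnt p L.subtype ν.1 = cnt p (Subgroup.inclusion (hLK.trans hKU)) ν.1 := by
  classical
  haveI : Fintype U := Fintype.ofFinite _
  have hSU : (S : Subgroup G) ≤ U := Subgroup.le_normalizer.trans hNU
  set L' := L.subgroupOf U with hL'
  set K' := K.subgroupOf U with hK'
  haveI : Fintype L' := Fintype.ofFinite _
  haveI : Fintype K' := Fintype.ofFinite _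
  set eL : L' ≃* L := Subgroup.subgroupOfEquivOfLe (hLK.trans hKU) with heL
  set eK : K' ≃* K := Subgroup.subgroupOfEquivOfLe hKU with heK
  have hLK' : L' ≤ K' := fun x hx => hLK hx
  set S' : Sylow p U := S.subtype hSU with hS'
  set ν' : Cfsg.IrrCharacter L' := H43.irrCongr eL ν with hν'
  have hbr : cnt p (Subgroup.inclusion (hLK.trans hKU)) ν.1 = cnt p L'.subtype ν'.1 :=
    cnt_congr_left p eL _ _ (fun l => Subtype.ext rfl) _ _ (fun l => rfl)
  rw [hbr]
  have hfix : ∀ (θ : Cfsg.IrrCharacter K) (u : U),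
      Fix K' (H43.irrCongr eK θ).1 u ↔ Fix K θ.1 (u : G) := by
    intro θ u
    refine ⟨fun h k l hkl => ?_, fun h k l hkl => ?_⟩
    · have := h (eK.symm k) (eK.symm l) (Subtype.ext hkl)
      simpa [H43.irrCongr_apply] using this
    · exact h (eK k) (eK l) (congrArg Subtype.val hkl)
  have hinv' : ∀ g : U, Fix L' ν'.1 g := fun g k l hkl =>
    hinv g (eL k) (eL l) (congrArg Subtype.val hkl)
  have hnorm : ∀ θ : Cfsg.IrrCharacter K,
      (fun η => H43.irrCongr eK η) ⁻¹' normOrbit K' (S' : Subgroup U) (H43.irrCongr eK θ) =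
        normOrbit K (S : Subgroup G) θ := by
    intro θ
    have hconj : ∀ (n : U), H43.irrCongr eK (H43.irrConj K (n : G) θ) =
        H43.irrConj K' n (H43.irrCongr eK θ) := fun n =>
      Subtype.ext (funext fun k => congrArg θ.1 (Subtype.ext rfl))
    have hmem : ∀ n : U, n ∈ Subgroup.normalizer ((S' : Subgroup U) : Set U) ↔
        (n : G) ∈ Subgroup.normalizer ((S : Subgroup G) : Set G) := by
      intro n
      refine (Sylow.smul_eq_iff_mem_normalizer (P := S')).symm.trans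
        (Iff.trans ?_ (Sylow.smul_eq_iff_mem_normalizer (P := S)))
      rw [hS', Sylow.smul_subtype]
      exact ⟨fun h => Sylow.subtype_injective h, fun h => Sylow.ext (by
        rw [Sylow.coe_subtype, Sylow.coe_subtype]
        exact congrArg (fun X : Sylow p G => (X : Subgroup G).subgroupOf U) h)⟩
    refine Set.ext fun η => ⟨?_, ?_⟩
    · rintro ⟨n, hn, e⟩
      refine ⟨n, (hmem n).1 hn, (H43.irrCongrEquiv eK).injective ?_⟩
      exact e.trans (hconj n).symm
    · rintro ⟨n, hn, rfl⟩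
      exact ⟨⟨n, hNU hn⟩, (hmem ⟨n, hNU hn⟩).2 hn, hconj ⟨n, hNU hn⟩⟩
  set f : {χ : Cfsg.IrrCharacter G // ¬ p ∣ Cfsg.charDegree χ.1 ∧ Over L.subtype ν.1 χ.1} →
      Set (Cfsg.IrrCharacter K) := fun a => invConst K (S : Subgroup G) a.1.1 with hf
  set g : {χ : Cfsg.IrrCharacter U // ¬ p ∣ Cfsg.charDegree χ.1 ∧ Over L'.subtype ν'.1 χ.1} →
      Set (Cfsg.IrrCharacter K) :=
    fun b => (fun η => H43.irrCongr eK η) ⁻¹' invConst K' (S' : Subgroup U) b.1.1 with hg
  have hgood : ∀ θ : Cfsg.IrrCharacter K, (∀ s ∈ S, Fix K θ.1 s) →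
      Over (Subgroup.inclusion hLK) ν.1 θ.1 →
      Nat.card {a // f a = normOrbit K (S : Subgroup G) θ} =
        Nat.card {b // g b = normOrbit K (S : Subgroup G) θ} := by
    intro θ hS0 hν0
    rw [card_fibre L K hLK S ν θ hS0 hν0, IH θ hS0,
      show cnt p (Subgroup.inclusion hKU) θ.1 = cnt p K'.subtype (H43.irrCongr eK θ).1 from
        cnt_congr_left p eK _ _ (fun l => Subtype.ext rfl) _ _ (fun l => rfl)]
    rw [← card_fibre L' K' hLK' S' ν' (H43.irrCongr eK θ)
      (fun s hs => (hfix θ s).2 (hS0 _ hs))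
      ((over_congr_left eL _ ((Subgroup.inclusion hLK).comp eL.toMonoidHom) (fun l => rfl) ν.1 ν'.1
        (fun l => rfl) θ.1).1 hν0)]
    refine Nat.card_congr (Equiv.subtypeEquivRight fun b => ?_)
    rw [← hnorm θ]
    show invConst K' (S' : Subgroup U) b.1.1 = _ ↔
      (fun η => H43.irrCongr eK η) ⁻¹' invConst K' (S' : Subgroup U) b.1.1 = _
    exact ⟨fun h => by rw [h], fun h => (H43.irrCongrEquiv eK).surjective.preimage_injective h⟩
  refine card_eq_of_fibres f g fun q => ?_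
  by_cases hex : ∃ θ, (∀ s ∈ S, Fix K θ.1 s) ∧ Over (Subgroup.inclusion hLK) ν.1 θ.1 ∧
      q = normOrbit K (S : Subgroup G) θ
  · obtain ⟨θ, hS0, hν0, rfl⟩ := hex
    exact hgood θ hS0 hν0
  · have h1 : IsEmpty {a // f a = q} := ⟨fun a => by
      obtain ⟨θ, hθ⟩ := invConst_nonempty K S a.1.1 a.1.2.1
      exact hex ⟨θ, hθ.1, over_of_mem_invConst L K hLK (S : Subgroup G) ν hinv a.1.1 a.1.2.2 θ hθ,
        a.2.symm.trans (invConst_eq_normOrbit K S a.1.1 θ hθ)⟩⟩
    have h2 : IsEmpty {b // g b = q} := ⟨fun b => by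
      obtain ⟨η, hη⟩ := invConst_nonempty K' S' b.1.1 b.1.2.1
      obtain ⟨θ, hθe⟩ := (H43.irrCongrEquiv eK).surjective η
      have hθe' : H43.irrCongr eK θ = η := hθe
      subst hθe'
      refine hex ⟨θ, fun s hs => (hfix θ ⟨s, hSU hs⟩).1 (hη.1 ⟨s, hSU hs⟩ hs),
        (over_congr_left eL _ ((Subgroup.inclusion hLK).comp eL.toMonoidHom) (fun l => rfl) ν.1 ν'.1
          (fun l => rfl) θ.1).2 ?_, ?_⟩
      · exact over_of_mem_invConst L' K' hLK' (S' : Subgroup U) ν' hinv' b.1.1 b.1.2.2 _ hη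
      · rw [← b.2]
        show (fun η => H43.irrCongr eK η) ⁻¹' invConst K' (S' : Subgroup U) b.1.1.1 = _
        rw [invConst_eq_normOrbit K' S' b.1.1 _ hη, hnorm θ]⟩
    rw [Nat.card_of_isEmpty, Nat.card_of_isEmpty]

end Cfsg.Agent.H63.McKay
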